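import Cfsg.Agent.InertialQuotient.Setup
import Cfsg.Agent.BlockPairing.MajorTwo
import Cfsg.Agent.BlockPairing.DefectOne
import Cfsg.Agent.BlocksLocal.LocalConjugacy
import Cfsg.Agent.S4669

/-!
# Nilpotent blocks with cyclic defect groups have one irreducible Brauer character

`card_ge_of_nilp`: a nilpotent block with abelian defect group `P` has at least `|P| - 1 + l(B)`
characters, one subsection for each element of `P`.  For cyclic `P` there are at most `|P|`
(major subsection at a generator), so `l(B) = 1` (`blockRank_eq_one`).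
-/

set_option autoImplicit false
set_option linter.unusedSectionVars false
set_option linter.style.haveILetI false
set_option maxHeartbeats 800000

namespace CfsgLib.InertialQuotient

open Cfsg CfsgLib.BlockPairs
open CfsgLib.Blocks (Res omegaBar idemBar resCtr overSet isBlockUnion_of_isPBlock)
open scoped ComplexConjugate

universe u

variable {G : Type u} [Group G] [Fintype G] {M : Ideal AlgInt} [M.IsPrime]
variable {p : ℕ} [hp : Fact p.Prime]

open Classical in
/-- The ranks of the blocks of `C(x)` inducing `B` add up to the norm of their union. -/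
theorem sum_blockRank_inducing (hM : Cfsg.IsPModular p M) {x : G} (hx : ∃ k, orderOf x = p ^ k)
    [Fintype (Subgroup.centralizer ({x} : Set G))] {B : Set (IrrCharacter G)}
    (hB : Cfsg.IsPBlock M B) :
    ((∑ᶠ b ∈ {b : Set (IrrCharacter (Subgroup.centralizer ({x} : Set G))) |
        Cfsg.IsInducedBlock M (Subgroup.centralizer ({x} : Set G)) b B},
        Cfsg.blockRank p b : ℕ) : ℂ) =
      ∑ ξ : IrrCharacter (Subgroup.centralizer ({x} : Set G)),
        if ξ ∈ overSet M _ B (isBlockUnion_of_isPBlock hB) then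
          BlockPairing.regInner p (ξ : Subgroup.centralizer ({x} : Set G) → ℂ) ξ else 0 := by
  rw [finsum_mem_eq_toFinset_sum, Nat.cast_sum,
    Finset.sum_congr rfl fun b hb => BlockPairing.blockRank_eq_sum hM
      (isBlockUnion_of_isPBlock (Set.mem_toFinset.1 hb).1), Finset.sum_comm]
  refine Finset.sum_congr rfl fun ξ _ => ?_
  split_ifs with hξ
  · rw [Finset.sum_eq_single (Cfsg.blockOf M (ξ : _ → ℂ))]
    · rw [if_pos (CfsgLib.Blocks.mem_blockOf_self ξ)]
    · intro b hb hne
      rw [if_neg]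
      exact fun h => hne (CfsgLib.Blocks.eq_blockOf_of_mem (Set.mem_toFinset.1 hb).1 h)
    · intro h
      refine absurd ?_ h
      rw [Set.mem_toFinset]
      exact CfsgLib.Blocks.isInducedBlock_of_mem_overSet hM hx hB hξ
  · refine Finset.sum_eq_zero fun b hb => if_neg fun h => hξ ?_
    rw [Set.mem_toFinset] at hb
    obtain ⟨χ, hχ⟩ := CfsgLib.Blocks.isPBlock_nonempty hB
    have h1 := (CfsgLib.Blocks.isInducedBlock_iff _ hb.1 hB h hχ).1 hb
      (idemBar M B (isBlockUnion_of_isPBlock hB))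
    rw [CfsgLib.Blocks.omegaBar_idemBar, if_pos hχ] at h1
    show omegaBar M ξ _ ≠ 0
    rw [h1]
    exact one_ne_zero

open Classical in
/-- At the identity these ranks add up to the rank of the block. -/
theorem sum_blockRank_one (hM : Cfsg.IsPModular p M) {B : Set (IrrCharacter G)}
    (hB : Cfsg.IsPBlock M B) :
    ∑ᶠ b ∈ {b : Set (IrrCharacter (Subgroup.centralizer ({(1 : G)} : Set G))) |
        Cfsg.IsInducedBlock M (Subgroup.centralizer ({(1 : G)} : Set G)) b B},
        Cfsg.blockRank p b = Cfsg.blockRank p B := by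
  haveI := Fintype.ofFinite (Subgroup.centralizer ({(1 : G)} : Set G))
  apply Nat.cast_injective (R := ℂ)
  rw [sum_blockRank_inducing hM ⟨0, by simp⟩ hB,
    BlockPairing.blockRank_eq_sum hM (isBlockUnion_of_isPBlock hB)]
  have htop : Subgroup.centralizer ({(1 : G)} : Set G) = ⊤ :=
    eq_top_iff.2 fun g _ => Subgroup.mem_centralizer_singleton_iff.2 (by simp)
  let e : Subgroup.centralizer ({(1 : G)} : Set G) ≃ G :=
    { toFun := Subtype.val
      invFun := fun g => ⟨g, by rw [htop]; trivial⟩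
      left_inv := fun _ => rfl
      right_inv := fun _ => rfl }
  have hstep : ∀ y : Subgroup.centralizer ({(1 : G)} : Set G), ¬ p ∣ orderOf y →
      ∑ χ : IrrCharacter G, (if χ ∈ B then (χ : G → ℂ) y * conj ((χ : G → ℂ) y) else 0) =
        ∑ ξ : IrrCharacter (Subgroup.centralizer ({(1 : G)} : Set G)),
          if ξ ∈ overSet M _ B (isBlockUnion_of_isPBlock hB) then
            (ξ : Subgroup.centralizer ({(1 : G)} : Set G) → ℂ) y *
              conj ((ξ : Subgroup.centralizer ({(1 : G)} : Set G) → ℂ) y) else 0 := fun y hy => by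
    have := BlockPairing.sum_sq_section hM (x := (1 : G)) ⟨0, by simp⟩ hB hy
    simpa using this
  have hexp : ∀ {X : Type u} [Group X] [Fintype X] (A : Set (IrrCharacter X)),
      ∑ ξ : IrrCharacter X, (if ξ ∈ A then BlockPairing.regInner p (ξ : X → ℂ) ξ else 0) =
        (Nat.card X : ℂ)⁻¹ * ∑ y : X, if p ∣ orderOf y then 0 else
          ∑ ξ : IrrCharacter X, if ξ ∈ A then (ξ : X → ℂ) y * conj ((ξ : X → ℂ) y) else 0 := by
    intro X _ _ A
    have e1 : ∀ ξ : IrrCharacter X,
        (if ξ ∈ A then BlockPairing.regInner p (ξ : X → ℂ) ξ else 0) =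
          (Nat.card X : ℂ)⁻¹ * ∑ y : X, if p ∣ orderOf y then 0 else
            if ξ ∈ A then (ξ : X → ℂ) y * conj ((ξ : X → ℂ) y) else 0 := by
      intro ξ
      by_cases h : ξ ∈ A <;> simp [h, BlockPairing.regInner]
    simp only [e1, ← Finset.mul_sum]
    congr 1
    rw [Finset.sum_comm]
    refine Finset.sum_congr rfl fun y _ => ?_
    split_ifs <;> simp
  rw [hexp, hexp]
  congr 1
  · rw [Nat.card_congr e]
  · refine Fintype.sum_equiv e _ _ fun y => ?_
    show _ = if p ∣ orderOf (y : G) then 0 else _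
    rw [Subgroup.orderOf_coe]
    split_ifs with hy
    · rfl
    · exact (hstep y hy).symm

variable [CharP (Res M) p] [IsAlgClosed (Res M)]

/-- A nilpotent block with abelian defect group has a subsection at every element of it. -/
theorem card_ge_of_nilp (hM : Cfsg.IsPModular p M) {B : Set (IrrCharacter G)}
    (hB : Cfsg.IsPBlock M B) {P : Subgroup G} (hPD : Cfsg.IsDefectGroup p M B P)
    (hab : P ≤ Subgroup.centralizer (P : Set G)) (hn : Nilp p ⊤ (gblk M B)) :
    Nat.card P - 1 + Cfsg.blockRank p B ≤ Nat.card B := by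
  classical
  have hb := isBlock_gblk (M := M) hB
  have hd := (isDefectGroup_gblk_iff hB P).1 hPD
  obtain ⟨e, he⟩ := exists_blockHas hb le_top hd.2.1 hd.2.2.1
  have hmax := isMaxPair_of_defect hd he
  have hPe := hmax.1.1
  have hpe : ∀ y : G, y ∈ P → ∃ k, orderOf y = p ^ k := fun y hy => by
    obtain ⟨j, hj⟩ := hd.2.1 ⟨y, hy⟩
    exact ((Nat.dvd_prime_pow hp.out).1
      (orderOf_dvd_of_pow_eq_one (congrArg Subtype.val hj : y ^ p ^ j = 1))).imp fun k hk => hk.2
  obtain ⟨X, hX, hrep, h1X⟩ : ∃ X : Finset G, (∀ x ∈ X, ∃ k : ℕ, orderOf x = p ^ k) ∧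
      (∀ g : G, (∃ k : ℕ, orderOf g = p ^ k) → ∃! x, x ∈ X ∧ IsConj g x) ∧ (1 : G) ∈ X := by
    let rep : ConjClasses G → G := fun C => if C = ConjClasses.mk 1 then 1 else Quotient.out C
    have hC : ∀ C, ConjClasses.mk (rep C) = C := fun C => by
      simp only [rep]
      split_ifs with h
      · exact h.symm
      · exact Quotient.out_eq C
    haveI := Fintype.ofFinite (ConjClasses G)
    refine ⟨(Finset.univ.image rep).filter fun x => ∃ k : ℕ, orderOf x = p ^ k,
      fun x hx => (Finset.mem_filter.1 hx).2, fun g hg => ?_, Finset.mem_filter.2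
        ⟨Finset.mem_image.2 ⟨ConjClasses.mk 1, Finset.mem_univ _, by simp [rep]⟩, 0, by simp⟩⟩
    have hgc : IsConj g (rep (ConjClasses.mk g)) :=
      ConjClasses.mk_eq_mk_iff_isConj.1 (hC _).symm
    refine ⟨rep (ConjClasses.mk g), ⟨Finset.mem_filter.2 ⟨Finset.mem_image_of_mem _
      (Finset.mem_univ _), ?_⟩, hgc⟩, fun x hx => ?_⟩
    · obtain ⟨c, hc⟩ := isConj_iff.1 hgc
      obtain ⟨k, hk⟩ := hg
      exact ⟨k, by rw [← hk, ← hc, show c * g * c⁻¹ = MulAut.conj c g from rfl, MulEquiv.orderOf_eq]⟩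
    · obtain ⟨C, -, rfl⟩ := Finset.mem_image.1 (Finset.mem_filter.1 hx.1).1
      rw [ConjClasses.mk_eq_mk_iff_isConj.2 hx.2, hC]
  have hcount := BlockPairing.card_block_eq_sum hM hB X hX hrep
  rw [← Finset.add_sum_erase X _ h1X, sum_blockRank_one hM hB] at hcount
  rw [hcount, add_comm]
  refine Nat.add_le_add_left ?_ _
  let I : G → Type u := fun x => {b : Set (IrrCharacter (Subgroup.centralizer ({x} : Set G))) //
    Cfsg.IsInducedBlock M (Subgroup.centralizer ({x} : Set G)) b B}
  have hI : ∀ x : G, Nat.card (I x) ≤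
      ∑ᶠ b ∈ {b : Set (IrrCharacter (Subgroup.centralizer ({x} : Set G))) |
        Cfsg.IsInducedBlock M (Subgroup.centralizer ({x} : Set G)) b B},
        Cfsg.blockRank p b := fun x => by
    haveI := Fintype.ofFinite (Subgroup.centralizer ({x} : Set G))
    rw [finsum_mem_eq_toFinset_sum, Nat.card_eq_fintype_card, ← Finset.card_univ,
      Finset.card_eq_sum_ones]
    refine le_trans ?_ (Finset.sum_le_sum fun b hb => BlockPairing.one_le_blockRank (p := p)
      (CfsgLib.Blocks.isPBlock_nonempty (Set.mem_toFinset.1 hb).1))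
    rw [← Finset.card_eq_sum_ones, ← Finset.card_eq_sum_ones, Finset.card_univ,
      Set.toFinset_card]
    rfl
  refine le_trans ?_ (Finset.sum_le_sum fun x _ => hI x)
  -- the subsection of an element of `P`
  have hsub : ∀ y ∈ P, y ≠ 1 → ∃ x ∈ X.erase 1, ∃ g : G, g * y * g⁻¹ = x ∧ ∃ b : I x,
      ∃ f : GA (Res M) G, Le p ⊤ (Subgroup.zpowers y) f P e ∧
        conjA (Res M) g f = sblk M (Subgroup.centralizer ({x} : Set G)) b.1 := by
    intro y hy hy1
    obtain ⟨x, ⟨hxX, hyx⟩, -⟩ := hrep y (hpe y hy)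
    obtain ⟨g, hg⟩ := isConj_iff.1 hyx
    have hx1 : x ≠ 1 := by
      rintro rfl
      exact hy1 (conj_eq_one_iff.1 hg)
    obtain ⟨f, hf, hle⟩ := exists_below hPe (Subgroup.zpowers_le.2 hy)
    have hh := ((blockHas_iff_of_le hb hle hf).2 hmax.1).conjA hb.fixed (x := g) trivial
    have hzp : cj g (Subgroup.zpowers y) = Subgroup.zpowers x := by
      rw [cj, MonoidHom.map_zpowers, ← hg]
      rfl
    rw [hzp] at hh
    haveI := Fintype.ofFinite (Subgroup.centralizer ({x} : Set G))
    obtain ⟨b, hbB, hbeq⟩ := exists_eq_sblk (M := M) (e := conjA (Res M) g f)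
      (K := Subgroup.centralizer ({x} : Set G))
      (centralizer_zpowers x ▸ isBlock_centralizer hh.1)
    rw [hbeq] at hh
    obtain ⟨ξ, hξ⟩ := CfsgLib.Blocks.isPBlock_nonempty hbB
    have hind := CfsgLib.Blocks.isInducedBlock_of_mem_overSet hM (hX x hxX) hB
      (mem_overSet_of_blockHas hM hB hbB hh hξ)
    rw [← CfsgLib.Blocks.eq_blockOf_of_mem hbB hξ] at hind
    exact ⟨x, Finset.mem_erase.2 ⟨hx1, hxX⟩, g, hg, ⟨b, hind⟩, f, hle, hbeq⟩
  choose x hxX g hg b f hle hbf using hsub
  let P' : Type u := {y : P // (y : G) ≠ 1}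
  let Φ : P' → Σ x : ↥(X.erase 1), I x.1 := fun y =>
    ⟨⟨x y.1.1 y.1.2 y.2, hxX y.1.1 y.1.2 y.2⟩, b y.1.1 y.1.2 y.2⟩
  have hΦ : Function.Injective Φ := by
    rintro ⟨⟨y, hy⟩, hy1⟩ ⟨⟨y', hy'⟩, hy1'⟩ heq
    have hxx := congrArg (fun s : Σ x : ↥(X.erase 1), I x.1 => (s.1.1 : G)) heq
    have hbb := congrArg (fun s : Σ x : ↥(X.erase 1), I x.1 =>
      sblk M (Subgroup.centralizer ({(s.1.1 : G)} : Set G)) s.2.1) heq
    dsimp only [Φ] at hxx hbb
    rw [← hbf y hy hy1, ← hbf y' hy' hy1'] at hbb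
    set h := (g y' hy' hy1')⁻¹ * g y hy hy1 with hh
    have hyy : h * y * h⁻¹ = y' := by
      calc h * y * h⁻¹ = (g y' hy' hy1')⁻¹ * (g y hy hy1 * y * (g y hy hy1)⁻¹) *
            g y' hy' hy1' := by rw [hh]; group
        _ = (g y' hy' hy1')⁻¹ * (g y' hy' hy1' * y' * (g y' hy' hy1')⁻¹) *
            g y' hy' hy1' := by rw [hg y hy hy1, hg y' hy' hy1', hxx]
        _ = y' := by group
    have hzp : cj h (Subgroup.zpowers y) = Subgroup.zpowers y' := by
      rw [cj, MonoidHom.map_zpowers, ← hyy]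
      rfl
    have hmor : Mor p P e (Subgroup.zpowers y) h := by
      refine ⟨f y hy hy1, hle y hy hy1, ?_⟩
      rw [hzp, hh, ← conjA_conjA, hbb, conjA_inv]
      exact hle y' hy' hy1'
    have hmem : Cfsg.conjHom (Subgroup.zpowers y) h ∈
        (blockSystem hmax.1.1).Hom (Subgroup.zpowers y) := ⟨h, hmor, fun u => rfl⟩
    rw [(nilp_iff_inner hb hmax).1 hn] at hmem
    obtain ⟨-, w, hw, hwy⟩ := hmem
    have h2 : h * y * h⁻¹ = w * y * w⁻¹ := hwy ⟨y, Subgroup.mem_zpowers y⟩
    rw [hyy, ← Subgroup.mem_centralizer_iff.1 (hab hw) y hy, mul_inv_cancel_right] at h2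
    exact Subtype.ext (Subtype.ext h2.symm)
  calc Nat.card P - 1 = Nat.card P' := by
        rw [Nat.card_eq_fintype_card (α := P'), Fintype.card_subtype_compl,
          Nat.card_eq_fintype_card]
        congr 1
        rw [eq_comm, Fintype.card_eq_one_iff]
        exact ⟨⟨1, rfl⟩, fun z => Subtype.ext (Subtype.ext z.2)⟩
    _ ≤ Nat.card (Σ x : ↥(X.erase 1), I x.1) := Nat.card_le_card_of_injective Φ hΦ
    _ = ∑ x ∈ X.erase 1, Nat.card (I x) := by
        rw [Nat.card_sigma]
        exact Finset.sum_coe_sort (X.erase 1) fun x => Nat.card (I x)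

/-- A block with cyclic defect group has at most as many characters as the group has elements. -/
theorem card_le_of_cyclic (hM : Cfsg.IsPModular p M) {B : Set (IrrCharacter G)}
    (hB : Cfsg.IsPBlock M B) {P : Subgroup G} (hPD : Cfsg.IsDefectGroup p M B P)
    (hcyc : IsCyclic P) : Nat.card B ≤ Nat.card P := by
  obtain ⟨v, hv⟩ := hcyc.exists_generator
  set H := Subgroup.centralizer ({(v : G)} : Set G) with hH
  have hu : Subgroup.zpowers (v : G) = P := le_antisymm (Subgroup.zpowers_le.2 v.2) fun y hy => by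
    obtain ⟨i, hi⟩ := hv ⟨y, hy⟩
    exact ⟨i, congrArg Subtype.val hi⟩
  have hCH : Subgroup.centralizer (P : Set G) = H := by rw [← hu, centralizer_zpowers]
  have hab := le_centralizer_of_cyclic hcyc
  haveI := Fintype.ofFinite (Subgroup.centralizer ({(v : G)} : Set G))
  obtain ⟨b, hbD, hbB⟩ := CfsgLib.BlocksLocal.exists_sub_block (L := H) hM hB hPD
    (hab.trans hCH.le) hCH.le (hCH.symm.le.trans (Subgroup.centralizer_le_normalizer _))
  have hcen : P.subgroupOf H ≤ Subgroup.center H := fun z hz => Subgroup.mem_center_iff.2 fun g =>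
    Subtype.ext (Subgroup.mem_centralizer_iff.1
      (hCH.symm.le g.2) z hz).symm
  have hl : Cfsg.blockRank p b = 1 :=
    Cfsg.Agent.S4669.result p M hM b hbB.1 (P.subgroupOf H) hbD hcen
  have hk := CfsgLib.Blocks.card_defectGroup hM hB hPD
  have hPH : P ≤ H := hab.trans hCH.le
  rw [hk]
  refine MajorSubsection.card_le_of_rank_le_two hM ?_ hbB ?_ (by omega)
  · obtain ⟨j, hj⟩ := CfsgLib.Blocks.IsDefectGroup.isPGroup hPD v
    exact ((Nat.dvd_prime_pow hp.out).1
      (orderOf_dvd_of_pow_eq_one (congrArg Subtype.val hj : (v : G) ^ p ^ j = 1))).imp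
      fun k hk => hk.2
  · apply Nat.pow_right_injective hp.out.two_le
    show p ^ Cfsg.blockDefect p b = p ^ Cfsg.blockDefect p B
    rw [← CfsgLib.Blocks.card_defectGroup hM hbB.1 hbD, ← hk,
      Nat.card_congr (Subgroup.subgroupOfEquivOfLe hPH).toEquiv]

theorem blockRank_eq_one (hM : Cfsg.IsPModular p M) {B : Set (IrrCharacter G)}
    (hB : Cfsg.IsPBlock M B) {P : Subgroup G} (hPD : Cfsg.IsDefectGroup p M B P)
    (hcyc : IsCyclic P) (hn : Nilp p ⊤ (gblk M B)) : Cfsg.blockRank p B = 1 := by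
  have h1 := card_ge_of_nilp hM hB hPD (le_centralizer_of_cyclic hcyc) hn
  have h2 := card_le_of_cyclic hM hB hPD hcyc
  have h3 := BlockPairing.one_le_blockRank (p := p) (CfsgLib.Blocks.isPBlock_nonempty hB)
  have : 0 < Nat.card P := Nat.card_pos
  omega

end CfsgLib.InertialQuotient
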