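import Cfsg.Agent.BlockPairs.Nilpotent

/-!
# The inertial quotient of a block with an abelian defect group

For a maximal pair `(P, e)` with `P` abelian the quotient `stab (P, e) / C(P)` has order prime to
`p` (`exists_coprime_pow`), and the block below `(P, e)` of a centralizer `C(Q)` is nilpotent
exactly when only `C(P)` in the stabilizer centralizes `Q` (`nilp_centralizer_iff`).
-/

set_option autoImplicit false
set_option maxHeartbeats 400000
set_option linter.unusedSectionVars false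
set_option linter.style.haveILetI false

namespace CfsgLib.InertialQuotient

open CfsgLib.BlockPairs

variable {k : Type*} [Field k] {G : Type*} [Group G] [Finite G] {p : ℕ} [hp : Fact p.Prime]
  [CharP k p] [IsAlgClosed k]
variable {P Q : Subgroup G} {b e f : GA k G}

/-- Powers of the stabilizer prime to `p` centralize the abelian defect group. -/
theorem exists_coprime_pow (hb : IsBlock (⊤ : Subgroup G) b) (hmax : IsMaxPair p ⊤ b P e)
    (hab : P ≤ Subgroup.centralizer (P : Set G)) :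
    ∃ m : ℕ, ¬ p ∣ m ∧ ∀ g ∈ stab ⊤ P e, g ^ m ∈ Subgroup.centralizer (P : Set G) := by
  obtain ⟨-, R, hR⟩ := isFullyAutomized_top hb hmax
  have hbot : (R : Subgroup ((blockSystem hmax.1.1).autGroup P)) = ⊥ := by
    rw [hR, eq_bot_iff]
    rintro ⟨α, hα⟩ hmem
    obtain ⟨g, hg, hgN, hgα⟩ := CfsgLib.Fusion.mem_autInducedBy_iff.1 hmem
    refine Subgroup.mem_bot.2 (Subtype.ext (MulEquiv.ext fun x => Subtype.ext ?_))
    have hgx : ((α x : P) : G) = g * (x : G) * g⁻¹ := hgα x
    show ((α x : P) : G) = x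
    rw [hgx, ← Subgroup.mem_centralizer_iff.1 (hab hg) x x.2, mul_inv_cancel_right]
  refine ⟨Nat.card ((blockSystem hmax.1.1).autGroup P), ?_, fun g hg => ?_⟩
  · have := R.not_dvd_index
    rwa [hbot, Subgroup.index_bot] at this
  · have h : (⟨_, mem_autGroup_of_stab (hPe := hmax.1.1) Le.refl' hg⟩ :
        (blockSystem hmax.1.1).autGroup P) ^ Nat.card ((blockSystem hmax.1.1).autGroup P) = 1 :=
      pow_card_eq_one'
    have h' := congrArg Subtype.val h
    simp only [SubgroupClass.coe_pow, OneMemClass.coe_one, ← map_pow] at h'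
    rw [← MonoidHom.mem_ker, Subgroup.normalizerMonoidHom_ker] at h'
    exact h'

/-- An element of the stabilizer with a p-power power in the centralizer centralizes. -/
theorem mem_centralizer_of_pow (hb : IsBlock (⊤ : Subgroup G) b) (hmax : IsMaxPair p ⊤ b P e)
    (hab : P ≤ Subgroup.centralizer (P : Set G)) {g : G} (hg : g ∈ stab ⊤ P e) (a : ℕ)
    (ha : g ^ p ^ a ∈ Subgroup.centralizer (P : Set G)) :
    g ∈ Subgroup.centralizer (P : Set G) := by
  obtain ⟨m, hm, hpow⟩ := exists_coprime_pow hb hmax hab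
  have hcop : IsCoprime ((p ^ a : ℕ) : ℤ) (m : ℤ) :=
    Nat.isCoprime_iff_coprime.2 ((hp.out.coprime_iff_not_dvd.2 hm).pow_left a)
  obtain ⟨u, v, huv⟩ := hcop
  rw [← zpow_one g, ← huv, zpow_add, mul_comm u, mul_comm v, zpow_mul, zpow_mul, zpow_natCast,
    zpow_natCast]
  exact mul_mem (zpow_mem ha _) (zpow_mem (hpow g hg) _)

theorem le_centralizer_of_le (hab : P ≤ Subgroup.centralizer (P : Set G)) (hQP : Q ≤ P) :
    P ≤ Subgroup.centralizer (Q : Set G) :=
  hab.trans (Subgroup.centralizer_le (SetLike.coe_subset_coe.2 hQP))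

/-- The abelian defect group is a defect group of every block below the maximal pair. -/
theorem defect_centralizer (hb : IsBlock (⊤ : Subgroup G) b) (hmax : IsMaxPair p ⊤ b P e)
    (hab : P ≤ Subgroup.centralizer (P : Set G)) (hle : Le p ⊤ Q f P e) :
    IsMaxPair p (Subgroup.centralizer (Q : Set G)) f P e := by
  have hPe := hmax.1.1
  have hQf := le_pair hPe hle
  have hQP := hle.subgroup_le
  have hPC := le_centralizer_of_le hab hQP
  obtain ⟨g, hs, hlg⟩ := step_of_le hle hPe hQP le_rfl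
    (hPC.trans (Subgroup.centralizer_le_normalizer _))
  obtain rfl := le_unique hlg Le.refl'
  have hd : IsDefectGrp p (Subgroup.centralizer (Q : Set G)) f P := by
    refine isDefectGrp_of_card (isBlock_centralizer hQf) hPC hPe.2.1 hs.br_ne_zero
      fun S hS hSp hne => ?_
    obtain ⟨z, -, hzS⟩ := exists_conj_into hb hmax hle hQf
      (hS.trans (centralizer_le_stab hQf)) hSp hne
    exact (card_cj z S).symm.le.trans (Subgroup.card_le_of_le hzS)
  exact isMaxPair_of_defect hd ⟨hPe.of_top hPC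
    (Subgroup.centralizer_le (SetLike.coe_subset_coe.2 hQP)), hs.2.2.2.2.2⟩

/-- A pair of the block of a centralizer lying below gives an inclusion in the whole group. -/
theorem le_of_blockHas (hP : IsPair p ⊤ P e) (hab : P ≤ Subgroup.centralizer (P : Set G))
    (hQP : Q ≤ P) (hf : IsBlock (Subgroup.centralizer (Q : Set G)) f)
    (h : BlockHas p (Subgroup.centralizer (Q : Set G)) f P e) : Le p ⊤ Q f P e := by
  have hPC := le_centralizer_of_le hab hQP
  refine Le.of_step ⟨⟨le_top, hP.2.1.to_le hQP, ?_⟩, hP, hQP,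
    hPC.trans (Subgroup.centralizer_le_normalizer _), hf.fixed.mono hPC, h.2⟩
  rw [cent, top_inf_eq]
  exact hf

/-- Elements of the stabilizer centralizing `Q` centralize `P` when the block of `C(Q)` is
nilpotent. -/
theorem inertial_inf_of_nilp (hb : IsBlock (⊤ : Subgroup G) b) (hmax : IsMaxPair p ⊤ b P e)
    (hab : P ≤ Subgroup.centralizer (P : Set G)) (hle : Le p ⊤ Q f P e)
    (hn : Nilp p (Subgroup.centralizer (Q : Set G)) f) {g : G} (hg : g ∈ stab ⊤ P e)
    (hgQ : g ∈ Subgroup.centralizer (Q : Set G)) : g ∈ Subgroup.centralizer (P : Set G) := by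
  obtain ⟨a, m, hm, hgn⟩ := Nat.exists_eq_pow_mul_and_not_dvd (orderOf_pos g).ne' p hp.out.ne_one
  have hreg : Cfsg.IsPRegular p (g ^ p ^ a) := fun hdvd => hm <| hdvd.trans (by
    rw [orderOf_pow' g (pow_ne_zero _ hp.out.ne_zero), hgn,
      Nat.gcd_eq_right (Dvd.intro m rfl), Nat.mul_div_cancel_left _ (pow_pos hp.out.pos a)])
  exact mem_centralizer_of_pow hb hmax hab hg a
    (hn P e (defect_centralizer hb hmax hab hle).1 _
      ⟨⟨pow_mem hgQ _, pow_mem hg.1.2 _⟩, (pow_mem hg _ : g ^ p ^ a ∈ stab ⊤ P e).2⟩ hreg)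

/-- The converse. -/
theorem nilp_of_inertial_inf (hb : IsBlock (⊤ : Subgroup G) b) (hmax : IsMaxPair p ⊤ b P e)
    (hab : P ≤ Subgroup.centralizer (P : Set G)) (hle : Le p ⊤ Q f P e)
    (hinf : stab ⊤ P e ⊓ Subgroup.centralizer (Q : Set G) ≤ Subgroup.centralizer (P : Set G)) :
    Nilp p (Subgroup.centralizer (Q : Set G)) f := by
  intro R g hR x hx hreg
  set C := Subgroup.centralizer (Q : Set G) with hC
  have hQP := hle.subgroup_le
  have hQC : Q ≤ C := hQP.trans (le_centralizer_of_le hab hQP)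
  have hfb : IsBlock C f := isBlock_centralizer (le_pair hmax.1.1 hle)
  have hmaxC := defect_centralizer hb hmax hab hle
  have hRN : R ≤ Subgroup.normalizer (Q : Set G) :=
    hR.1.1.trans (Subgroup.centralizer_le_normalizer _)
  have hpairC : IsPair p C (Q ⊔ R) g := ⟨sup_le hQC hR.1.1,
    (hmax.1.1.2.1.to_le hQP).to_sup_of_normal_left' hR.1.2.1 hRN, by
      rw [cent, centralizer_sup, ← inf_assoc, inf_idem]; exact hR.1.2.2⟩
  have hhas : BlockHas p C f (Q ⊔ R) g :=
    ⟨hpairC, by rw [br_sup, br_eq_self (a := f) (hfb.supp), hR.2]⟩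
  obtain ⟨z, hz, hlz⟩ := exists_conj_le hfb hmaxC hhas
  have hzQ : cj z Q = Q := cj_eq_of_centralizer hz
  have hCP : Subgroup.centralizer (P : Set G) ≤ C :=
    Subgroup.centralizer_le (SetLike.coe_subset_coe.2 hQP)
  have hQS : Q ≤ cj z (Q ⊔ R) :=
    hzQ.symm.le.trans (cj_mono z (le_sup_left : Q ≤ Q ⊔ R))
  have hltop : Le p ⊤ (cj z (Q ⊔ R)) (conjA k z g) P e := hlz.to_top le_rfl hQS
  obtain ⟨⟨hxC, hxN⟩, hxg⟩ := hx
  have hxS : x ∈ stab ⊤ (Q ⊔ R) g := ⟨⟨trivial, mem_normalizer_of_cj_eq (by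
    rw [cj, Subgroup.map_sup]
    exact congrArg₂ (· ⊔ ·) (cj_eq_of_centralizer hxC) (cj_eq_self hxN))⟩, hxg⟩
  have hx' : z * x * z⁻¹ ∈ stab ⊤ (cj z (Q ⊔ R)) (conjA k z g) := by
    rw [← stab_conj, mem_cj]
    simpa [mul_assoc] using hxS
  obtain ⟨y, hy, c, hc, hxy⟩ := exists_mul_of_abelian hb hmax hab hltop hx'
  have hcC : c ∈ C := Subgroup.centralizer_le (SetLike.coe_subset_coe.2 hQS) hc
  have hyC : y ∈ C := by
    rw [show y = z * x * z⁻¹ * c⁻¹ by rw [hxy, mul_inv_cancel_right]]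
    exact mul_mem (mul_mem (mul_mem hz hxC) (inv_mem hz)) (inv_mem hcC)
  have hyS : y ∈ Subgroup.centralizer ((cj z (Q ⊔ R) : Subgroup G) : Set G) :=
    Subgroup.centralizer_le (SetLike.coe_subset_coe.2 hltop.subgroup_le) (hinf ⟨hy, hyC⟩)
  have hxc : z * x * z⁻¹ ∈ Subgroup.centralizer ((cj z (Q ⊔ R) : Subgroup G) : Set G) :=
    by rw [hxy]; exact mul_mem hyS hc
  exact Subgroup.centralizer_le (SetLike.coe_subset_coe.2 le_sup_right) (mem_centralizer_cj hxc)

theorem nilp_centralizer_iff (hb : IsBlock (⊤ : Subgroup G) b) (hmax : IsMaxPair p ⊤ b P e)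
    (hab : P ≤ Subgroup.centralizer (P : Set G)) (hle : Le p ⊤ Q f P e) :
    Nilp p (Subgroup.centralizer (Q : Set G)) f ↔
      stab ⊤ P e ⊓ Subgroup.centralizer (Q : Set G) ≤ Subgroup.centralizer (P : Set G) :=
  ⟨fun hn _ hg => inertial_inf_of_nilp hb hmax hab hle hn hg.1 hg.2,
    nilp_of_inertial_inf hb hmax hab hle⟩

end CfsgLib.InertialQuotient
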