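import Cfsg.Agent.InertialQuotient.Induced
import Cfsg.Agent.InertialQuotient.Abelian

/-!
# The maximal pair attached to an inducing block, and the cyclic case

`maxPair_of_induced` and `stab_eq` read the hypotheses "`P` a defect group, `c` inducing `B`, `T`
the stabilizer of `c`" in the model.  For cyclic `P` the stabilizer acts freely (`free_of_cyclic`)
and is cyclic of order dividing `p - 1` over `C(P)` (`cyclic_quotient`).
-/

set_option autoImplicit false
set_option linter.unusedSectionVars false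
set_option linter.style.haveILetI false
set_option maxHeartbeats 400000

namespace CfsgLib.InertialQuotient

open Cfsg CfsgLib.BlockPairs
open CfsgLib.Blocks (Res)

universe u

variable {G : Type u} [Group G] [Finite G] {M : Ideal AlgInt} [M.IsPrime]
variable {p : ℕ} [hp : Fact p.Prime] [CharP (Res M) p] [IsAlgClosed (Res M)]
variable {P : Subgroup G}

theorem le_centralizer_of_comm (h : ∀ x ∈ P, ∀ y ∈ P, x * y = y * x) :
    P ≤ Subgroup.centralizer (P : Set G) :=
  fun x hx => Subgroup.mem_centralizer_iff.2 fun y hy => h y hy x hx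

theorem le_centralizer_of_cyclic (h : IsCyclic P) : P ≤ Subgroup.centralizer (P : Set G) := by
  obtain ⟨u, hu⟩ := h.exists_generator
  refine le_centralizer_of_comm fun x hx y hy => ?_
  obtain ⟨i, hi⟩ := hu ⟨x, hx⟩
  obtain ⟨j, hj⟩ := hu ⟨y, hy⟩
  rw [show x = ((u : G)) ^ i from (congrArg Subtype.val hi).symm,
    show y = ((u : G)) ^ j from (congrArg Subtype.val hj).symm, ← zpow_add, ← zpow_add, add_comm]

theorem maxPair_of_induced (hM : Cfsg.IsPModular p M) {B : Set (IrrCharacter G)}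
    (hPD : Cfsg.IsDefectGroup p M B P) (hab : P ≤ Subgroup.centralizer (P : Set G))
    {c : Set (IrrCharacter (Subgroup.centralizer (P : Set G)))}
    (hc : Cfsg.IsInducedBlock M (Subgroup.centralizer (P : Set G)) c B) :
    IsBlock (⊤ : Subgroup G) (gblk M B) ∧
      IsMaxPair p ⊤ (gblk M B) P (sblk M (Subgroup.centralizer (P : Set G)) c) := by
  haveI := Fintype.ofFinite G
  have hd := (isDefectGroup_gblk_iff hc.2.1 P).1 hPD
  exact ⟨isBlock_gblk hc.2.1, isMaxPair_of_defect hd (blockHas_of_induced hM hd.2.1 hab hc)⟩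

theorem mem_stab_iff {K : Subgroup G} {c : Set (IrrCharacter (Subgroup.centralizer (K : Set G)))}
    (hc : Cfsg.IsPBlock M c) {g : G} :
    (g ∈ Subgroup.normalizer (K : Set G) ∧
      Cfsg.StabilizesBlock (Subgroup.centralizer (K : Set G)) c g) ↔
      g ∈ stab ⊤ K (sblk M (Subgroup.centralizer (K : Set G)) c) := by
  rw [mem_stab, stabilizesBlock_iff hc]
  constructor
  · rintro ⟨h1, -, h3⟩
    exact ⟨⟨trivial, h1⟩, h3⟩
  · rintro ⟨⟨-, h1⟩, h3⟩
    exact ⟨h1, normalizer_le_normalizer_centralizer K h1, h3⟩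

theorem stab_eq {K T : Subgroup G} {c : Set (IrrCharacter (Subgroup.centralizer (K : Set G)))}
    (hc : Cfsg.IsPBlock M c)
    (hT : ∀ g : G, g ∈ T ↔ (g ∈ Subgroup.normalizer (K : Set G) ∧
      Cfsg.StabilizesBlock (Subgroup.centralizer (K : Set G)) c g)) :
    T = stab ⊤ K (sblk M (Subgroup.centralizer (K : Set G)) c) :=
  Subgroup.ext fun g => (hT g).trans (mem_stab_iff hc)

section Model

variable {k : Type*} [Field k] [CharP k p] [IsAlgClosed k] {b e : GA k G}

/-- An element normalizing a cyclic `P = ⟨u⟩` raises its elements to one power. -/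
theorem exists_conj_pow {u : G} (hu : Subgroup.zpowers u = P) {g : G}
    (hg : g ∈ Subgroup.normalizer (P : Set G)) : ∃ n : ℕ, ∀ x ∈ P, g * x * g⁻¹ = x ^ n := by
  have h1 : g * u * g⁻¹ ∈ Subgroup.zpowers u := by
    rw [hu]
    exact (Subgroup.mem_normalizer_iff.1 hg u).1 (hu ▸ Subgroup.mem_zpowers u)
  obtain ⟨n, hn⟩ := (isOfFinOrder_of_finite u).mem_powers_iff_mem_zpowers.2 h1
  refine ⟨n, fun x hx => ?_⟩
  rw [← hu] at hx
  obtain ⟨i, rfl⟩ := hx
  have hn' : g * u * g⁻¹ = u ^ n := hn.symm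
  rw [← conj_zpow, hn', ← zpow_natCast u n, ← zpow_mul, ← zpow_natCast (u ^ i) n, ← zpow_mul,
    mul_comm]

/-- With a cyclic defect group only `C(P)` in the stabilizer fixes a non-identity element. -/
theorem free_of_cyclic (hb : IsBlock (⊤ : Subgroup G) b) (hmax : IsMaxPair p ⊤ b P e)
    (hcyc : IsCyclic P) {g : G} (hg : g ∈ stab ⊤ P e) {x : G} (hx : x ∈ P) (hx1 : x ≠ 1)
    (hfix : g * x * g⁻¹ = x) : g ∈ Subgroup.centralizer (P : Set G) := by
  obtain ⟨u, hu⟩ : ∃ u : G, Subgroup.zpowers u = P := by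
    obtain ⟨v, hv⟩ := hcyc.exists_generator
    refine ⟨v, le_antisymm (Subgroup.zpowers_le.2 v.2) fun y hy => ?_⟩
    obtain ⟨i, hi⟩ := hv ⟨y, hy⟩
    exact ⟨i, congrArg Subtype.val hi⟩
  obtain ⟨n, hn⟩ := exists_conj_pow hu hg.1.2
  obtain ⟨a, ha⟩ := hmax.1.1.2.1 ⟨u, hu ▸ Subgroup.mem_zpowers u⟩
  have hua : u ^ p ^ a = 1 := congrArg Subtype.val ha
  obtain ⟨c, hc⟩ := hmax.1.1.2.1 ⟨x, hx⟩
  obtain ⟨c', -, hox⟩ := (Nat.dvd_prime_pow hp.out).1
    (orderOf_dvd_of_pow_eq_one (congrArg Subtype.val hc : x ^ p ^ c = 1))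
  have hpx : p ∣ orderOf x := by
    rw [hox]
    refine dvd_pow_self p fun h0 => hx1 (orderOf_eq_one_iff.1 ?_)
    rw [hox, h0, pow_zero]
  have h1 : n ≡ 1 [MOD orderOf x] := by
    rw [← pow_eq_pow_iff_modEq, pow_one, ← hn x hx, hfix]
  have h2 : ((p : ℤ)) ∣ (n : ℤ) - 1 := by
    have := (Nat.modEq_iff_dvd.1 h1.symm)
    exact (Int.natCast_dvd_natCast.2 hpx).trans (by simpa using this)
  have h3 : n ^ p ^ a ≡ 1 [MOD p ^ a] := by
    have := dvd_sub_pow_of_dvd_sub (p := p) h2 a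
    rw [one_pow] at this
    refine (Nat.modEq_iff_dvd.2 ?_).symm
    push_cast
    exact (pow_dvd_pow _ (Nat.le_succ a)).trans this
  have hpow : ∀ j : ℕ, ∀ y ∈ P, g ^ j * y * (g ^ j)⁻¹ = y ^ (n ^ j) := by
    intro j
    induction j with
    | zero => simp
    | succ j ih =>
      intro y hy
      rw [pow_succ' g, show g * g ^ j * y * (g * g ^ j)⁻¹ = g * (g ^ j * y * (g ^ j)⁻¹) * g⁻¹ by
        group, ih y hy, hn _ (pow_mem hy _), ← pow_mul, pow_succ]
  refine mem_centralizer_of_pow hb hmax (le_centralizer_of_cyclic hcyc) hg a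
    (Subgroup.mem_centralizer_iff.2 fun y hy => ?_)
  have hyo : orderOf y ∣ p ^ a := by
    obtain ⟨i, rfl⟩ := show y ∈ Subgroup.zpowers u from hu.symm ▸ hy
    refine orderOf_dvd_of_pow_eq_one ?_
    rw [← zpow_natCast, ← zpow_mul, mul_comm, zpow_mul, zpow_natCast, hua, one_zpow]
  have := hpow (p ^ a) y hy
  rw [pow_eq_pow_iff_modEq.2 (h3.of_dvd hyo), pow_one, mul_inv_eq_iff_eq_mul] at this
  exact this.symm

/-- With a nontrivial cyclic defect group the inertial quotient is cyclic of order dividing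
`p - 1`. -/
theorem cyclic_quotient (hb : IsBlock (⊤ : Subgroup G) b) (hmax : IsMaxPair p ⊤ b P e)
    (hcyc : IsCyclic P) (hP1 : P ≠ ⊥)
    [((Subgroup.centralizer (P : Set G)).subgroupOf (stab ⊤ P e)).Normal] :
    IsCyclic (stab ⊤ P e ⧸ (Subgroup.centralizer (P : Set G)).subgroupOf (stab ⊤ P e)) ∧
      (Subgroup.centralizer (P : Set G)).relIndex (stab ⊤ P e) ∣ p - 1 := by
  obtain ⟨z, hz⟩ := exists_prime_orderOf_dvd_card' (G := P) p (by
    obtain ⟨a, ha⟩ := IsPGroup.iff_card.1 hmax.1.1.2.1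
    rw [ha]
    refine dvd_pow_self p fun h0 => hP1 ?_
    rw [h0, pow_zero] at ha
    exact Subgroup.eq_bot_of_card_eq _ ha)
  set Z : Subgroup G := Subgroup.zpowers (z : G) with hZ
  have hZc : Nat.card Z = p := by rw [Nat.card_zpowers, Subgroup.orderOf_coe, hz]
  obtain ⟨u, hu⟩ : ∃ u : G, Subgroup.zpowers u = P := by
    obtain ⟨v, hv⟩ := hcyc.exists_generator
    refine ⟨v, le_antisymm (Subgroup.zpowers_le.2 v.2) fun y hy => ?_⟩
    obtain ⟨i, hi⟩ := hv ⟨y, hy⟩
    exact ⟨i, congrArg Subtype.val hi⟩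
  have hTN : stab ⊤ P e ≤ Subgroup.normalizer (Z : Set G) := by
    intro g hg
    obtain ⟨n, hn⟩ := exists_conj_pow hu hg.1.2
    refine mem_normalizer_of_cj_eq (Subgroup.eq_of_le_of_card_ge ?_ (card_cj g Z).ge)
    rw [hZ, cj, MonoidHom.map_zpowers, Subgroup.zpowers_le]
    show g * (z : G) * g⁻¹ ∈ _
    rw [hn _ z.2]
    exact pow_mem (Subgroup.mem_zpowers _) _
  let φ : stab ⊤ P e →* MulAut Z := Z.normalizerMonoidHom.comp (Subgroup.inclusion hTN)
  have hker : φ.ker = (Subgroup.centralizer (P : Set G)).subgroupOf (stab ⊤ P e) := by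
    ext g
    rw [MonoidHom.mem_ker, MonoidHom.comp_apply, ← MonoidHom.mem_ker,
      Subgroup.normalizerMonoidHom_ker, Subgroup.mem_subgroupOf, Subgroup.mem_subgroupOf]
    show (g : G) ∈ Subgroup.centralizer (Z : Set G) ↔ _
    constructor
    · intro h
      refine free_of_cyclic hb hmax hcyc g.2 z.2 ?_ (mul_inv_eq_iff_eq_mul.2
        (Subgroup.mem_centralizer_iff.1 h _ (Subgroup.mem_zpowers _)).symm)
      intro h1
      have : orderOf z = 1 := by rw [← Subgroup.orderOf_coe, h1, orderOf_one]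
      exact hp.out.ne_one (hz.symm.trans this)
    · exact fun h => Subgroup.centralizer_le
        (SetLike.coe_subset_coe.2 (Subgroup.zpowers_le.2 z.2)) h
  haveI : IsCyclic Z := isCyclic_of_prime_card hZc
  have hA : Nat.card (MulAut Z) = p - 1 := by
    rw [IsCyclic.card_mulAut, hZc, Nat.totient_prime hp.out]
  haveI : IsCyclic (MulAut Z) := by
    haveI : Fact (Nat.card Z).Prime := ⟨hZc.symm ▸ hp.out⟩
    exact (IsCyclic.mulAutMulEquiv Z).isCyclic.2 inferInstance
  let ψ := (QuotientGroup.kerLift φ).comp (QuotientGroup.quotientMulEquivOfEq hker.symm).toMonoidHom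
  have hψ : Function.Injective ψ := (QuotientGroup.kerLift_injective φ).comp
    (QuotientGroup.quotientMulEquivOfEq hker.symm).injective
  refine ⟨isCyclic_of_injective ψ hψ, ?_⟩
  rw [Subgroup.relIndex, Subgroup.index_eq_card, ← hA]
  exact Subgroup.card_dvd_of_injective ψ hψ

end Model

end CfsgLib.InertialQuotient
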