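import Cfsg.Agent.InertialQuotient.KleinSigns
import Cfsg.Agent.BlockPairs.BrauerInduction
import Cfsg.Prelude.Def_BlockLocal

/-!
# The perfect isometry between two blocks with Klein four defect groups

`exists_perfect`: two blocks with the data of `kleinData` for the same fusion are perfectly
isometric, by any bijection with the signs of the two vectors.  `exists_maxPair_correspondent`
gives a maximal pair common to a block and its Brauer correspondent.
-/

set_option autoImplicit false
set_option linter.unusedSectionVars false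
set_option linter.style.haveILetI false
set_option maxHeartbeats 800000

namespace CfsgLib.InertialQuotient

open Cfsg CfsgLib.BlockPairs
open CfsgLib.Blocks (Res localRing omegaBar idemBar resCtr brRes isBlockUnion_of_isPBlock)

universe u

variable {G : Type u} [Group G] [Fintype G] {H : Type u} [Group H] [Fintype H]
  {M : Ideal AlgInt} [M.IsPrime]

/-- The signed sum of products of values. -/
noncomputable def kern {B : Set (IrrCharacter G)} {c : Set (IrrCharacter H)} [Fintype c]
    (V : IrrCharacter G → ℂ) (W : IrrCharacter H → ℂ) (e : c ≃ B) (g : G) (h : H) : ℂ :=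
  ∑ η : c, V (e η) * (((e η : IrrCharacter G) : G → ℂ) g) * (W η * (((η : IrrCharacter H) : H → ℂ) h))

theorem sum_subtype_eq_finsum {α : Type*} (B : Set α) [Fintype B] (F : α → ℂ) :
    ∑ χ : B, F χ = ∑ᶠ χ ∈ B, F χ := by
  rw [← finsum_set_coe_eq_finsum_mem, finsum_eq_sum_of_fintype]

theorem mem_of_sign {x : ℂ} (h : x = 1 ∨ x = -1) : x ∈ localRing M := by
  rcases h with h | h <;> rw [h]
  · exact Subring.one_mem _
  · exact Subring.neg_mem _ (Subring.one_mem _)

theorem exists_int_sum_signs {ι : Type*} [Fintype ι] (hι : Fintype.card ι = 4) {A B : ι → ℂ}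
    (hA : ∀ i, A i = 1 ∨ A i = -1) (hB : ∀ i, B i = 1 ∨ B i = -1) (hA0 : ∑ i, A i = 0)
    (hB0 : ∑ i, B i = 0) : ∃ z : ℤ, ∑ i, A i * B i = 4 * z := by
  classical
  refine ⟨((Finset.univ.filter fun i => A i = 1 ∧ B i = 1).card : ℤ) - 1, ?_⟩
  have h : ∑ i, (1 + A i) * (1 + B i) =
      4 * ((Finset.univ.filter fun i => A i = 1 ∧ B i = 1).card : ℂ) := by
    rw [← Finset.sum_boole, Finset.mul_sum]
    refine Finset.sum_congr rfl fun i _ => ?_
    rcases hA i with h | h <;> rcases hB i with h' | h' <;> rw [h, h'] <;> norm_num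
  have h2 : ∑ i, (1 + A i) * (1 + B i) = 4 + ∑ i, A i * B i := by
    calc ∑ i, (1 + A i) * (1 + B i) = ∑ i : ι, ((1 + A i) + (B i + A i * B i)) :=
          Finset.sum_congr rfl fun i _ => by ring
      _ = _ := by
          rw [Finset.sum_add_distrib, Finset.sum_add_distrib, Finset.sum_add_distrib, hA0, hB0,
            Finset.sum_const, Finset.card_univ, hι]
          simp
  push_cast
  linear_combination h - h2

variable {E : Prop} {B : Set (IrrCharacter G)} {c : Set (IrrCharacter H)} [Fintype c]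
  {V : IrrCharacter G → ℂ} {W : IrrCharacter H → ℂ}

theorem kern_symm [Fintype B] (e : c ≃ B) (g : G) (h : H) :
    kern V W e g h = kern W V e.symm h g := by
  refine Fintype.sum_equiv e _ _ fun η => ?_
  rw [e.symm_apply_apply]
  ring

/-- The kernel vanishes on mixed pairs and is divisible by the centralizer on the left. -/
theorem kern_spec (hM : Cfsg.IsPModular 2 M) (hB : KleinData M B (fun g => ¬ 2 ∣ orderOf g ↔ E) V)
    (hc : KleinData M c (fun g => ¬ 2 ∣ orderOf g ↔ E) W) (hc4 : Fintype.card c = 4) (e : c ≃ B)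
    (g : G) (h : H) :
    Cfsg.MemLocalRing M (kern V W e g h /
      (Nat.card (Subgroup.centralizer ({g} : Set G)) : ℂ)) ∧
      ((¬ 2 ∣ orderOf g ↔ ¬ 2 ∣ orderOf h) ∨ kern V W e g h = 0) := by
  classical
  haveI : Fact (Nat.Prime 2) := ⟨Nat.prime_two⟩
  haveI : Fintype B := Fintype.ofFinite B
  obtain ⟨η₁⟩ : Nonempty c := Fintype.card_pos_iff.1 (by omega)
  let a : G → c → ℂ := fun z η => V (e η) * ((e η : IrrCharacter G) : G → ℂ) z
  let b : c → ℂ := fun η => W η * ((η : IrrCharacter H) : H → ℂ) h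
  have hk : ∀ z, kern V W e z h = ∑ η : c, a z η * b η := fun z => rfl
  have hV : ∀ η : c, V (e η) ∈ localRing M := fun η => mem_of_sign (hB.sign _ (e η).2)
  have hbl : ∀ η, b η ∈ localRing M := fun η => Subring.mul_mem _ (mem_of_sign (hc.sign _ η.2))
    (CfsgLib.Blocks.memLocalRing_char (η : IrrCharacter H) h)
  have haL : ∀ z, (¬ 2 ∣ orderOf z ↔ E) → ∀ η, a z η = a z η₁ := fun z hz η =>
    hB.line z hz _ (e η).2 _ (e η₁).2
  have hbL : (¬ 2 ∣ orderOf h ↔ E) → ∀ η, b η = b η₁ := fun hh η =>
    hc.line h hh _ η.2 _ η₁.2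
  have ha0 : ∀ z, ¬ (¬ 2 ∣ orderOf z ↔ E) → ∑ η, a z η = 0 := fun z hz => by
    rw [← hB.orth z hz, ← sum_subtype_eq_finsum B]
    exact Fintype.sum_equiv e _ (fun χ : B => V χ * ((χ : IrrCharacter G) : G → ℂ) z) fun η => rfl
  have hb0 : ¬ (¬ 2 ∣ orderOf h ↔ E) → ∑ η, b η = 0 := fun hh => by
    rw [← hc.orth h hh, ← sum_subtype_eq_finsum c]
  rw [hk g]
  by_cases hg : ¬ 2 ∣ orderOf g ↔ E <;> by_cases hh : ¬ 2 ∣ orderOf h ↔ E
  · refine ⟨?_, Or.inl (hg.trans hh.symm)⟩
    obtain ⟨m, φ, D, hφ, hD, hval, -⟩ := hB.dec g (Or.inl hg)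
    have hs : (∑ η, a g η * b η) / (Nat.card (Subgroup.centralizer ({g} : Set G)) : ℂ) =
        (∑ i, V (e η₁) * D i (e η₁) *
          (4 * φ i / (Nat.card (Subgroup.centralizer ({g} : Set G)) : ℂ))) * b η₁ := by
      rw [Finset.sum_congr rfl fun η _ => by rw [haL g hg η, hbL hh η], Finset.sum_const,
        Finset.card_univ, hc4]
      simp only [a]
      rw [hval _ (e η₁).2, nsmul_eq_mul, Finset.mul_sum, Finset.sum_mul, Finset.sum_mul,
        Finset.mul_sum, Finset.sum_div]
      refine Finset.sum_congr rfl fun i _ => ?_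
      push_cast
      ring
    rw [hs]
    exact Subring.mul_mem (localRing M) (Subring.sum_mem (localRing M) fun i _ =>
      Subring.mul_mem _ (Subring.mul_mem _ (hV η₁) (mem_of_sign (hD i _ (e η₁).2))) (hφ i).2)
      (hbl η₁)
  · have h0 : ∑ η, a g η * b η = 0 := by
      rw [Finset.sum_congr rfl fun η _ => by rw [haL g hg η], ← Finset.mul_sum, hb0 hh, mul_zero]
    exact ⟨by rw [h0, zero_div]; exact Subring.zero_mem (localRing M), Or.inr h0⟩
  · have h0 : ∑ η, a g η * b η = 0 := by
      rw [Finset.sum_congr rfl fun η _ => by rw [hbL hh η], ← Finset.sum_mul, ha0 g hg, zero_mul]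
    exact ⟨by rw [h0, zero_div]; exact Subring.zero_mem (localRing M), Or.inr h0⟩
  · have hiff : ¬ 2 ∣ orderOf g ↔ ¬ 2 ∣ orderOf h := by tauto
    refine ⟨?_, Or.inl hiff⟩
    by_cases hgs : 2 ∣ orderOf g
    · have hhs : 2 ∣ orderOf h := by tauto
      obtain ⟨m, φ, D, hφ, hD, hval, horth⟩ := hB.dec g (Or.inr hgs)
      obtain ⟨n, ψ, D', hψ, hD', hval', horth'⟩ := hc.dec h (Or.inr hhs)
      have hz : ∀ i j, ∃ z : ℤ, ∑ η : c, V (e η) * D i (e η) * (W η * D' j η) = 4 * z := by
        intro i j
        refine exists_int_sum_signs hc4 (fun η => ?_) (fun η => ?_) ?_ ?_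
        · rcases hB.sign _ (e η).2 with h1 | h1 <;> rcases hD i _ (e η).2 with h2 | h2 <;>
            rw [h1, h2] <;> simp
        · rcases hc.sign _ η.2 with h1 | h1 <;> rcases hD' j _ η.2 with h2 | h2 <;>
            rw [h1, h2] <;> simp
        · rw [← horth hg i, ← sum_subtype_eq_finsum B]
          exact Fintype.sum_equiv e _ (fun χ : B => V χ * D i χ) fun η => rfl
        · rw [← horth' hh j, ← sum_subtype_eq_finsum c]
      choose z hz using hz
      have hs : (∑ η, a g η * b η) / (Nat.card (Subgroup.centralizer ({g} : Set G)) : ℂ) =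
          ∑ i, ∑ j, (z i j : ℂ) * ψ j *
            (4 * φ i / (Nat.card (Subgroup.centralizer ({g} : Set G)) : ℂ)) := by
        have h1 : ∀ i j, (∑ η : c, V (e η) * D i (e η) * (W η * D' j η)) * φ i * ψ j =
            4 * (z i j : ℂ) * φ i * ψ j := fun i j => by rw [hz]
        have h2 : ∑ η, a g η * b η = ∑ i, ∑ j, 4 * (z i j : ℂ) * φ i * ψ j := by
          simp only [← h1, a, b]
          simp only [Finset.sum_mul]
          rw [Finset.sum_congr rfl fun η _ => by
            rw [hval _ (e η).2, hval' _ η.2, Finset.mul_sum, Finset.mul_sum, Finset.sum_mul_sum]]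
          rw [Finset.sum_comm]
          refine Finset.sum_congr rfl fun i _ => ?_
          rw [Finset.sum_comm]
          exact Finset.sum_congr rfl fun j _ => Finset.sum_congr rfl fun η _ => by ring
        rw [h2, Finset.sum_div]
        refine Finset.sum_congr rfl fun i _ => ?_
        rw [Finset.sum_div]
        exact Finset.sum_congr rfl fun j _ => by ring
      rw [hs]
      exact Subring.sum_mem (localRing M) fun i _ => Subring.sum_mem _ fun j _ =>
        Subring.mul_mem _ (Subring.mul_mem _ (intCast_mem _ _) (hψ j).1) (hφ i).2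
    · let c' : IrrCharacter G → ℂ := fun χ =>
        if hχ : χ ∈ B then b (e.symm ⟨χ, hχ⟩) * V χ else 0
      have hF : ∀ z, ∑ χ, c' χ * (χ : G → ℂ) z = ∑ η, a z η * b η := fun z => by
        rw [← Finset.sum_subset (Finset.subset_univ B.toFinset) fun χ _ hχ => by
            simp only [c']; rw [dif_neg fun h' => hχ (Set.mem_toFinset.2 h'), zero_mul],
          Finset.sum_subtype B.toFinset (fun _ => Set.mem_toFinset) fun χ => c' χ * (χ : G → ℂ) z]
        refine Fintype.sum_equiv e.symm _ _ fun χ => ?_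
        simp only [c', a, dif_pos χ.2, Subtype.coe_eta, e.apply_symm_apply]
        ring
      have h := memLocalRing_div_of_vanish hM c' (fun χ => by
        simp only [c']
        split_ifs with hχ
        · exact Subring.mul_mem (localRing M) (hbl _) (mem_of_sign (hB.sign χ hχ))
        · exact Subring.zero_mem (localRing M)) (fun z hz => by
        rw [hF, Finset.sum_congr rfl fun η _ => by rw [haL z (by tauto) η], ← Finset.mul_sum,
          hb0 hh, mul_zero]) hgs
      rwa [hF] at h

open Classical in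
/-- Two blocks with the same data are perfectly isometric. -/
theorem exists_perfect (hM : Cfsg.IsPModular 2 M)
    (hB : KleinData M B (fun g => ¬ 2 ∣ orderOf g ↔ E) V)
    (hc : KleinData M c (fun g => ¬ 2 ∣ orderOf g ↔ E) W) (hB4 : Nat.card B = 4)
    (hc4 : Nat.card c = 4) :
    ∃ (I : IrrCharacter H → IrrCharacter G) (ε : IrrCharacter H → ℤ),
      Cfsg.IsPerfectIsometry 2 M c B I ε := by
  haveI := Fintype.ofFinite B
  have hcc : Fintype.card c = 4 := by rw [← Nat.card_eq_fintype_card, hc4]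
  have hBB : Fintype.card B = 4 := by rw [← Nat.card_eq_fintype_card, hB4]
  obtain ⟨χ₀⟩ : Nonempty B := Fintype.card_pos_iff.1 (by omega)
  let e : c ≃ B := Fintype.equivOfCardEq (hcc.trans hBB.symm)
  let I : IrrCharacter H → IrrCharacter G := fun η => if h : η ∈ c then e ⟨η, h⟩ else χ₀
  let ε : IrrCharacter H → ℤ := fun η => if V (I η) * W η = 1 then 1 else -1
  have hI : ∀ η : c, I η = e η := fun η => dif_pos η.2
  have hbij : Set.BijOn I c B := by
    refine ⟨fun η hη => by rw [show I η = e ⟨η, hη⟩ from dif_pos hη]; exact (e ⟨η, hη⟩).2,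
      fun η hη η' hη' h => ?_, fun χ hχ => ⟨e.symm ⟨χ, hχ⟩, (e.symm ⟨χ, hχ⟩).2, ?_⟩⟩
    · rw [show I η = e ⟨η, hη⟩ from dif_pos hη, show I η' = e ⟨η', hη'⟩ from dif_pos hη'] at h
      exact congrArg Subtype.val (e.injective (Subtype.ext h))
    · rw [hI, e.apply_symm_apply]
  have hε : ∀ η : c, (ε η : ℂ) = V (e η) * W η := fun η => by
    simp only [ε, hI]
    rcases hB.sign _ (e η).2 with h1 | h1 <;> rcases hc.sign _ η.2 with h2 | h2 <;>
      rw [h1, h2] <;> norm_num
  have hμ : ∀ g h, signedBijectionKernel c I ε g h = kern V W e g h := fun g h => by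
    rw [signedBijectionKernel, ← sum_subtype_eq_finsum c]
    refine Finset.sum_congr (by ext; simp) fun η _ => ?_
    rw [hε, hI]
    ring
  refine ⟨I, ε, hbij, fun η _ => by simp only [ε]; split_ifs <;> simp, fun g h => ?_⟩
  obtain ⟨h1, h3⟩ := kern_spec hM hB hc hcc e g h
  obtain ⟨h2, -⟩ := kern_spec hM hc hB hBB e.symm h g
  rw [← kern_symm] at h2
  rw [hμ]
  exact ⟨h1, h2, h3.imp_left fun h' => h'⟩

/-- A maximal pair shared by a block and its Brauer correspondent. -/
theorem exists_maxPair_correspondent {p : ℕ} [Fact p.Prime] [CharP (Res M) p]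
    [IsAlgClosed (Res M)] (hM : Cfsg.IsPModular p M) {B : Set (IrrCharacter G)}
    (hB : Cfsg.IsPBlock M B) {P : Subgroup G} (hPD : Cfsg.IsDefectGroup p M B P)
    {N : Subgroup G} (hN : N = Subgroup.normalizer (P : Set G)) {b : Set (IrrCharacter N)}
    (hbD : Cfsg.IsDefectGroup p M b (P.subgroupOf N)) (hb : Cfsg.IsInducedBlock M N b B) :
    ∃ (eP : GA (Res M) G) (e : GA (Res M) N),
      IsMaxPair p ⊤ (gblk M B) P eP ∧
      IsMaxPair p ⊤ (gblk M b) (P.subgroupOf N) e ∧
      ∀ x : N, x ∈ stab ⊤ (P.subgroupOf N) e ↔ (x : G) ∈ stab ⊤ P eP := by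
  haveI := Fintype.ofFinite N
  have hinj := N.subtype_injective
  have hd := (isDefectGroup_gblk_iff hB P).1 hPD
  have hP := hd.2.1
  have hPN : P ≤ N := hN ▸ Subgroup.le_normalizer
  have hCN : Subgroup.centralizer (P : Set G) ≤ N :=
    hN ▸ Subgroup.centralizer_le_normalizer _
  have hgb := isBlock_gblk (M := M) hB
  have hcb := isBlock_sblk (M := M) hb.1
  have hcd : IsDefectGrp p N (sblk M N b) P := (isDefectGroup_subgroupOf_iff hb.1 hPN).1 hbD
  -- the image of the block at `P`
  have hind : br P (gblk M B) * sblk M N b = sblk M N b := by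
    obtain ⟨ξ, hξ⟩ := CfsgLib.Blocks.isPBlock_nonempty hb.1
    obtain ⟨χ, hχ⟩ := CfsgLib.Blocks.isPBlock_nonempty hB
    set a := idemBar M B (isBlockUnion_of_isPBlock hB)
    have hbr : br P (gblk M B) =
        emb N.subtype (brRes P N hN.le a : GA (Res M) N) := by
      rw [gblk_eq_emb hB]
      refine ga_ext fun g => ?_
      have h1 := emb_coeff_apply (k := Res M) (φ := MonoidHom.id G) Function.injective_id
        (a : GA (Res M) G) g
      by_cases hg : g ∈ N
      · have h2 := emb_coeff_apply (k := Res M) (φ := N.subtype) hinj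
          (brRes P N hN.le a : GA (Res M) N) ⟨g, hg⟩
        simp only [Subgroup.coe_subtype] at h2
        rw [h2]
        by_cases hgC : g ∈ Subgroup.centralizer (P : Set G)
        · rw [br_coeff_mem P _ hgC,
            CfsgLib.Blocks.coeff_brRes_of_mem hN.le _ (h := ⟨g, hg⟩) hgC]
          exact h1
        · rw [br_coeff_not_mem P _ hgC, CfsgLib.Blocks.coeff_brRes_of_notMem hN.le _ (h := ⟨g, hg⟩) hgC]
      · rw [br_coeff_not_mem P _ (fun h => hg (hCN h)),
          emb_coeff_not_mem _ _ (by rwa [N.range_subtype])]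
    have hm : br P (gblk M B) ∈ sub N N :=
      ⟨(isSupp_br_of hgb.supp).mono (inf_le_right.trans hCN),
        isFixed_br hN.le (hgb.fixed.mono le_top)⟩
    refine (hcb.dichotomy hm (br_idem hP (hgb.fixed.mono le_top) hgb.idem)).resolve_left fun h0 => ?_
    have h2 : omega N (sblk M N b) (br P (gblk M B)) = 0 :=
      omega_unique hcb hm ⟨1, by rw [pow_one, zero_smul, sub_zero, h0]⟩
    have h3 := omega_blkE (φ := N.subtype) hinj hb.1 hξ (brRes P N hN.le a)
    rw [N.range_subtype, ← hbr, ← CfsgLib.Blocks.omegaBar_resCtr_eq_brRes hM hP hPN hN.le,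
      (CfsgLib.Blocks.isInducedBlock_iff _ hb.1 hB hξ hχ).1 hb, CfsgLib.Blocks.omegaBar_idemBar,
      if_pos hχ] at h3
    exact one_ne_zero (h3.symm.trans h2)
  obtain ⟨eP, he⟩ := exists_blockHas hcb hPN hcd.2.1 hcd.2.2.1
  have hcent : cent N P = Subgroup.centralizer (P : Set G) := inf_eq_right.2 hCN
  have hpair : IsPair p ⊤ P eP := ⟨le_top, hP, by rw [cent_top, ← hcent]; exact he.1.2.2⟩
  have hB' : BlockHas p ⊤ (gblk M B) P eP := by
    refine ⟨hpair, ?_⟩
    have hfB : IsFixed P (br P (gblk M B)) := isFixed_br (hPN.trans hN.le) (hgb.fixed.mono le_top)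
    calc br P (gblk M B) * eP = br P (gblk M B) * (br P (sblk M N b) * eP) := by rw [he.2]
      _ = br P (br P (gblk M B) * sblk M N b) * eP := by
          rw [br_mul hP hfB (hcb.fixed.mono hPN), br_br_of_le le_rfl, mul_assoc]
      _ = eP := by rw [hind, he.2]
  have hmax := isMaxPair_of_defect hd hB'
  have hPm : (P.subgroupOf N).map N.subtype = P := Subgroup.map_subgroupOf_eq_of_le hPN
  have htop : (⊤ : Subgroup N).map N.subtype = N := by
    rw [← MonoidHom.range_eq_map, N.range_subtype]
  obtain ⟨e, hee⟩ := exists_emb_of_isSupp (φ := N.subtype) hinj (z := eP)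
    ((isBlock_centralizer hpair).supp.mono (by rw [N.range_subtype]; exact hCN))
  have hbh : BlockHas p ⊤ (gblk M b) (P.subgroupOf N) e := by
    refine (blockHas_map_iff (φ := N.subtype) hinj).1 ?_
    rw [htop, hPm, hee, emb_gblk]
    exact he
  refine ⟨eP, e, hmax, isMaxPair_of_defect ((isDefectGroup_gblk_iff hb.1 _).1 hbD) hbh, fun x => ?_⟩
  rw [← map_mem_stab_iff (φ := N.subtype) hinj, htop, hPm, hee, mem_stab, mem_stab,
    Subgroup.coe_subtype]
  simp only [Subgroup.mem_top, true_and]
  exact and_congr_left' (and_iff_right x.2)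

end CfsgLib.InertialQuotient
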