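import Cfsg.Agent.InertialQuotient.Abelian
import Cfsg.Agent.BlockPairs.PairBridge
import Cfsg.Agent.BlockPairing.Subsections
import Cfsg.Agent.Star.Count

/-!
# Ranks of the blocks below a maximal pair with abelian group

`rkE p H e` is the p-regular rank of the block of the subgroup `H` with idempotent `e`, invariant
under injective homomorphisms; `rk p P eP Q` that of the block of `C(Q)` below `(P, eP)`.
`exists_local` moves the maximal pair into the group `C(Q)`, where `rk` becomes `R ↦ rk (Q ⊔ R)`.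
-/

set_option autoImplicit false
set_option linter.unusedSectionVars false
set_option linter.style.haveILetI false
set_option maxHeartbeats 800000

namespace CfsgLib.InertialQuotient

open Cfsg CfsgLib.BlockPairs
open CfsgLib.Blocks (Res isBlockUnion_of_isPBlock)
open CfsgLib.Star (below)
open scoped ComplexConjugate

universe u

variable {G : Type u} [Group G] [Finite G] {M : Ideal AlgInt} [M.IsPrime] {p : ℕ}

open Classical in
/-- The rank of the block of `H` with idempotent `e`. -/
noncomputable def rkE (p : ℕ) (H : Subgroup G) (e : GA (Res M) G) : ℕ :=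
  if h : ∃ f : Set (IrrCharacter H), Cfsg.IsPBlock M f ∧ sblk M H f = e then
    Cfsg.blockRank p h.choose else 0

theorem rkE_sblk {H : Subgroup G} {f : Set (IrrCharacter H)} (hf : Cfsg.IsPBlock M f) :
    rkE p H (sblk M H f) = Cfsg.blockRank p f := by
  have h : ∃ f' : Set (IrrCharacter H), Cfsg.IsPBlock M f' ∧ sblk M H f' = sblk M H f :=
    ⟨f, hf, rfl⟩
  rw [rkE, dif_pos h, sblk_inj h.choose_spec.1 hf h.choose_spec.2]

theorem blockRank_imageSet [Fact p.Prime] (hM : Cfsg.IsPModular p M) {X Y : Type u} [Group X]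
    [Group Y] [Finite X] [Finite Y] (e : X ≃* Y) {f : Set (IrrCharacter X)}
    (hf : Cfsg.IsPBlock M f) : Cfsg.blockRank p (imageSet e f) = Cfsg.blockRank p f := by
  classical
  haveI := Fintype.ofFinite X
  haveI := Fintype.ofFinite Y
  apply Nat.cast_injective (R := ℂ)
  rw [BlockPairing.blockRank_eq_sum hM (isBlockUnion_of_isPBlock (isPBlock_imageSet e hf)),
    BlockPairing.blockRank_eq_sum hM (isBlockUnion_of_isPBlock hf)]
  refine Fintype.sum_equiv (Equiv.ofBijective (irrComp e)
    ⟨irrComp_injective e, fun ξ => ⟨irrComp e.symm ξ, irrComp_symm e ξ⟩⟩) _ _ fun ξ => ?_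
  have h : BlockPairing.regInner p (ξ : Y → ℂ) ξ =
      BlockPairing.regInner p (irrComp e ξ : X → ℂ) (irrComp e ξ) := by
    rw [BlockPairing.regInner, BlockPairing.regInner, Nat.card_congr e.toEquiv]
    refine congrArg _ (Fintype.sum_equiv e.symm.toEquiv _ _ fun y => ?_)
    simp [irrComp_apply, e.symm.orderOf_eq]
  show (if irrComp e ξ ∈ f then BlockPairing.regInner p (ξ : Y → ℂ) ξ else 0) =
    if irrComp e ξ ∈ f then BlockPairing.regInner p (irrComp e ξ : X → ℂ) (irrComp e ξ) else 0
  rw [h]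

theorem emb_sblk {X : Type u} [Group X] [Finite X] {φ : X →* G} (hφ : Function.Injective φ)
    (H : Subgroup X) (f : Set (IrrCharacter H)) :
    emb φ (sblk M H f) = sblk M (H.map φ) (imageSet (H.equivMapOfInjective φ hφ) f) := by
  refine ga_ext fun g => ?_
  rw [sblk_coeff, Cfsg.subgroupBlockCoeff]
  by_cases hg : g ∈ H.map φ
  · obtain ⟨x, hx, rfl⟩ := id hg
    have h : (H.equivMapOfInjective φ hφ).symm ⟨φ x, hg⟩ = ⟨x, hx⟩ := by
      rw [MulEquiv.symm_apply_eq]
      exact Subtype.ext (Subgroup.coe_equivMapOfInjective_apply H φ hφ ⟨x, hx⟩).symm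
    rw [emb_coeff_apply hφ, sblk_coeff, Cfsg.subgroupBlockCoeff, dif_pos (show x ∈ H from hx), dif_pos hg,
      blockCoeff_imageSet, h]
  · rw [dif_neg hg, redC_zero]
    by_cases hr : g ∈ φ.range
    · obtain ⟨x, rfl⟩ := hr
      rw [emb_coeff_apply hφ, sblk_coeff, Cfsg.subgroupBlockCoeff,
        dif_neg (show x ∉ H from fun hx => hg ⟨x, hx, rfl⟩), redC_zero]
    · exact emb_coeff_not_mem φ _ hr

theorem rkE_map [Fact p.Prime] (hM : Cfsg.IsPModular p M) {X : Type u} [Group X] [Finite X]
    {φ : X →* G} (hφ : Function.Injective φ) {H : Subgroup X} {e : GA (Res M) X}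
    (he : IsBlock H e) : rkE p (H.map φ) (emb φ e) = rkE p H e := by
  obtain ⟨f, hf, rfl⟩ := exists_eq_sblk (M := M) he
  rw [emb_sblk hφ, rkE_sblk (isPBlock_imageSet _ hf), rkE_sblk hf, blockRank_imageSet hM _ hf]

theorem emb_gblk (K : Subgroup G) (b : Set (IrrCharacter K)) :
    emb K.subtype (gblk M b) = sblk M K b := by
  refine ga_ext fun g => ?_
  rw [sblk_coeff, Cfsg.subgroupBlockCoeff]
  by_cases hg : g ∈ K
  · have := emb_coeff_apply (k := Res M) (φ := K.subtype) K.subtype_injective (gblk M b) ⟨g, hg⟩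
    rw [Subgroup.coe_subtype, gblk_coeff] at this
    rw [dif_pos hg]
    exact this
  · rw [dif_neg hg, redC_zero, emb_coeff_not_mem _ _ (by rwa [K.range_subtype])]

theorem sblk_top (B : Set (IrrCharacter G)) :
    sblk M (⊤ : Subgroup G) (imageSet Subgroup.topEquiv.symm B) = gblk M B := by
  refine ga_ext fun g => ?_
  rw [sblk_coeff, gblk_coeff, Cfsg.subgroupBlockCoeff, dif_pos (Subgroup.mem_top g),
    blockCoeff_imageSet]
  rfl

theorem rkE_top [Fact p.Prime] (hM : Cfsg.IsPModular p M) {B : Set (IrrCharacter G)}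
    (hB : Cfsg.IsPBlock M B) : rkE p (⊤ : Subgroup G) (gblk M B) = Cfsg.blockRank p B := by
  rw [← sblk_top B, rkE_sblk (isPBlock_imageSet _ hB), blockRank_imageSet hM _ hB]

/-- The rank of the block of `C(Q)` below the maximal pair. -/
noncomputable def rk (p : ℕ) (P : Subgroup G) (eP : GA (Res M) G) (Q : Subgroup G) : ℕ :=
  rkE p (Subgroup.centralizer (Q : Set G)) (below p P eP Q)

variable [hp : Fact p.Prime] [CharP (Res M) p] [IsAlgClosed (Res M)]
  {B : Set (IrrCharacter G)} {P Q R : Subgroup G} {eP : GA (Res M) G}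

theorem le_below' (hmax : IsMaxPair p ⊤ (gblk M B) P eP) (hQ : Q ≤ P) :
    Le p ⊤ Q (below p P eP Q) P eP := by
  obtain ⟨f, -, hf⟩ := exists_below hmax.1.1 hQ
  have h : ∃ e, Le p ⊤ Q e P eP := ⟨f, hf⟩
  rw [below, dif_pos h]
  exact h.choose_spec

theorem below_eq' (hmax : IsMaxPair p ⊤ (gblk M B) P eP) {e : GA (Res M) G}
    (h : Le p ⊤ Q e P eP) : below p P eP Q = e :=
  le_unique (le_below' hmax h.subgroup_le) h

theorem isBlock_below (hmax : IsMaxPair p ⊤ (gblk M B) P eP) (hQ : Q ≤ P) :
    IsBlock (Subgroup.centralizer (Q : Set G)) (below p P eP Q) :=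
  isBlock_centralizer (le_pair hmax.1.1 (le_below' hmax hQ))

variable (hB : Cfsg.IsPBlock M B) (hmax : IsMaxPair p ⊤ (gblk M B) P eP)
  (hab : P ≤ Subgroup.centralizer (P : Set G))

include hB hmax hab

theorem maxPair_below (hQ : Q ≤ P) :
    IsMaxPair p (Subgroup.centralizer (Q : Set G)) (below p P eP Q) P eP :=
  defect_centralizer (isBlock_gblk hB) hmax hab (le_below' hmax hQ)

theorem below_of_blockHas (hQ : Q ≤ P) {f : GA (Res M) G}
    (hf : IsBlock (Subgroup.centralizer (Q : Set G)) f)
    (h : BlockHas p (Subgroup.centralizer (Q : Set G)) f P eP) : below p P eP Q = f :=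
  below_eq' hmax (le_of_blockHas hmax.1.1 hab hQ hf h)

/-- The block below depends only on the centralizer. -/
theorem below_congr (hQ : Q ≤ P) (hR : R ≤ P)
    (h : Subgroup.centralizer (Q : Set G) = Subgroup.centralizer (R : Set G)) :
    below p P eP R = below p P eP Q :=
  below_of_blockHas hB hmax hab hR (h ▸ isBlock_below hmax hQ)
    (h ▸ (maxPair_below hB hmax hab hQ).1)

theorem rk_congr (hQ : Q ≤ P) (hR : R ≤ P)
    (h : Subgroup.centralizer (Q : Set G) = Subgroup.centralizer (R : Set G)) :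
    rk p P eP R = rk p P eP Q := by
  rw [rk, rk, below_congr hB hmax hab hQ hR h, h]

theorem below_of_centralizer_top (hQ : Q ≤ P)
    (h : Subgroup.centralizer (Q : Set G) = ⊤) : below p P eP Q = gblk M B :=
  below_of_blockHas hB hmax hab hQ (h.symm ▸ isBlock_gblk hB) (h.symm ▸ hmax.1)

theorem rk_of_centralizer_top (hM : Cfsg.IsPModular p M) (hQ : Q ≤ P)
    (h : Subgroup.centralizer (Q : Set G) = ⊤) : rk p P eP Q = Cfsg.blockRank p B := by
  rw [rk, below_of_centralizer_top hB hmax hab hQ h, h, rkE_top hM hB]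

/-- The maximal pair inside the centralizer of a subgroup of `P`. -/
theorem exists_local (hM : Cfsg.IsPModular p M) (hQ : Q ≤ P) :
    ∃ (b : Set (IrrCharacter ↥(Subgroup.centralizer (Q : Set G))))
      (e : GA (Res M) ↥(Subgroup.centralizer (Q : Set G))),
      Cfsg.IsPBlock M b ∧ sblk M (Subgroup.centralizer (Q : Set G)) b = below p P eP Q ∧
      IsMaxPair p ⊤ (gblk M b) (P.subgroupOf (Subgroup.centralizer (Q : Set G))) e ∧
      (∀ x : ↥(Subgroup.centralizer (Q : Set G)),
        x ∈ stab ⊤ (P.subgroupOf (Subgroup.centralizer (Q : Set G))) e ↔ (x : G) ∈ stab ⊤ P eP) ∧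
      ∀ R, R ≤ P.subgroupOf (Subgroup.centralizer (Q : Set G)) →
        rk p (P.subgroupOf (Subgroup.centralizer (Q : Set G))) e R =
          rk p P eP (Q ⊔ R.map (Subgroup.centralizer (Q : Set G)).subtype) := by
  set K := Subgroup.centralizer (Q : Set G) with hK
  have hinj := K.subtype_injective
  have hPK : P ≤ K := le_centralizer_of_le hab hQ
  have hCP : Subgroup.centralizer (P : Set G) ≤ K :=
    Subgroup.centralizer_le (SetLike.coe_subset_coe.2 hQ)
  have hmK := maxPair_below hB hmax hab hQ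
  have hPm : (P.subgroupOf K).map K.subtype = P := Subgroup.map_subgroupOf_eq_of_le hPK
  have htop : (⊤ : Subgroup K).map K.subtype = K := by
    rw [← MonoidHom.range_eq_map, K.range_subtype]
  obtain ⟨b, hb, hbe⟩ := exists_eq_sblk (M := M) (isBlock_below hmax hQ)
  obtain ⟨e, he⟩ := exists_emb_of_isSupp (φ := K.subtype) hinj (z := eP)
    ((isBlock_centralizer hmax.1.1).supp.mono (by rw [K.range_subtype]; exact hCP))
  have hbh : BlockHas p ⊤ (gblk M b) (P.subgroupOf K) e := by
    refine (blockHas_map_iff (φ := K.subtype) hinj).1 ?_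
    rw [htop, hPm, he, emb_gblk, ← hbe]
    exact hmK.1
  have hd : IsDefectGrp p ⊤ (gblk M b) (P.subgroupOf K) := by
    rw [← isDefectGroup_gblk_iff hb, isDefectGroup_subgroupOf_iff hb hPK, ← hbe]
    exact (hmK.isDefectGrp (isBlock_below hmax hQ)).1
  have hmax' := isMaxPair_of_defect hd hbh
  have hab' : P.subgroupOf K ≤ Subgroup.centralizer ((P.subgroupOf K : Subgroup K) : Set K) :=
    fun a ha => Subgroup.mem_centralizer_iff.2 fun c hc =>
      Subtype.ext (Subgroup.mem_centralizer_iff.1 (hab ha) c hc)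
  refine ⟨b, e, hb, hbe.symm, hmax', fun x => ?_, fun R hR => ?_⟩
  · rw [← map_mem_stab_iff (φ := K.subtype) hinj, htop, hPm, he, mem_stab, mem_stab,
      Subgroup.coe_subtype]
    simp only [Subgroup.mem_top, true_and]
    exact and_congr_left' (and_iff_right x.2)
  · have hRm : R.map K.subtype ≤ P := hPm ▸ Subgroup.map_mono hR
    have hC : (Subgroup.centralizer (R : Set K)).map K.subtype =
        Subgroup.centralizer ((Q ⊔ R.map K.subtype : Subgroup G) : Set G) := by
      rw [centralizer_sup, ← cent_top R, map_cent hinj, htop]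
    have hbR := isBlock_below hmax' hR
    have hb' : IsBlock (Subgroup.centralizer ((Q ⊔ R.map K.subtype : Subgroup G) : Set G))
        (emb K.subtype (below p (P.subgroupOf K) e R)) := hC ▸ (isBlock_map_iff hinj).2 hbR
    have hh := (blockHas_map_iff (φ := K.subtype) hinj).2 (maxPair_below hb hmax' hab' hR).1
    rw [hC, hPm, he] at hh
    rw [rk, rk, below_of_blockHas hB hmax hab (sup_le hQ hRm) hb' hh, ← hC, rkE_map hM hinj hbR]

end CfsgLib.InertialQuotient
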