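import Cfsg.Agent.InertialQuotient.KleinFour
import Cfsg.Agent.InertialQuotient.RankTransport
import Cfsg.Agent.Star.Contr
import Cfsg.Agent.Star.Linear
import Cfsg.Agent.Blocks.RegularSupport
import Cfsg.Agent.Blocks.Height

/-!
# The decomposition numbers of a block with a Klein four defect group

At a subsection of rank one and defect two the decomposition column consists of signs
(`exists_sign_vector`).  `kleinData` packs what follows for the block: one vector of signs spans
the columns on one side (p-regular or p-singular) and is orthogonal to those on the other.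
-/

set_option autoImplicit false
set_option linter.unusedSectionVars false
set_option linter.style.haveILetI false
set_option maxHeartbeats 800000

namespace CfsgLib.InertialQuotient

open Cfsg CfsgLib.BlockPairs CfsgLib.BlocksCharsC
open CfsgLib.Blocks (Res localRing isBlockUnion_of_isPBlock)
open CfsgLib.Star (below cval T)
open CfsgLib.BlockPairing (regInner)
open scoped ComplexConjugate

universe u

variable {G : Type u} [Group G] [Fintype G] {M : Ideal AlgInt} [M.IsPrime]

theorem eq_zero_of_regInner_self {p : ℕ} {H : Type u} [Group H] [Fintype H] {v : H → ℂ}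
    (h : regInner p v v = 0) {y : H} (hy : ¬ p ∣ orderOf y) : v y = 0 := by
  rw [regInner, mul_eq_zero, inv_eq_zero, Nat.cast_eq_zero] at h
  have h2 := congrArg Complex.re (h.resolve_left Nat.card_pos.ne')
  rw [Complex.re_sum, Complex.zero_re] at h2
  have h3 := (Finset.sum_eq_zero_iff_of_nonneg (fun g _ => ?_)).1 h2 y (Finset.mem_univ _)
  · rw [if_neg hy, Complex.mul_conj, Complex.ofReal_re, Complex.normSq_eq_zero] at h3
    exact h3
  · split_ifs
    · simp
    · rw [Complex.mul_conj, Complex.ofReal_re]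
      exact Complex.normSq_nonneg _

/-- At a subsection of rank one and defect two the column consists of signs. -/
theorem exists_sign_vector (hM : Cfsg.IsPModular 2 M) {x : G} (hx : orderOf x ∣ 2)
    [Fintype (Subgroup.centralizer ({x} : Set G))] {B : Set (IrrCharacter G)}
    (hB : Cfsg.IsPBlock M B) (hBd : Cfsg.blockDefect 2 B = 2) (hk : Nat.card B = 4)
    {b : Set (IrrCharacter (Subgroup.centralizer ({x} : Set G)))}
    (hind : Cfsg.IsInducedBlock M (Subgroup.centralizer ({x} : Set G)) b B)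
    (hbd : Cfsg.blockDefect 2 b = 2) (hl : Cfsg.blockRank 2 b = 1)
    {χ₀ : IrrCharacter G} (hχ₀ : χ₀ ∈ B) {χ : IrrCharacter G} (hχ : χ ∈ B) :
    (subContrib 2 x b (χ : G → ℂ) χ₀ = 1 ∨ subContrib 2 x b (χ : G → ℂ) χ₀ = -1) ∧
      ∀ y, ¬ 2 ∣ orderOf y →
        secVal x b (χ : G → ℂ) y = subContrib 2 x b (χ : G → ℂ) χ₀ * secVal x b (χ₀ : G → ℂ) y := by
  classical
  haveI : Fact (Nat.Prime 2) := ⟨Nat.prime_two⟩
  obtain ⟨k, hk1, hxk'⟩ := (Nat.dvd_prime_pow Nat.prime_two).1 (by rwa [pow_one] : orderOf x ∣ 2 ^ 1)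
  have hxk : ∃ k, orderOf x = 2 ^ k := ⟨k, hxk'⟩
  have hb := hind.1
  have hA := isBlockUnion_of_isPBlock hb
  have hht : ∀ χ ∈ B, Cfsg.blockHeight 2 B (χ : G → ℂ) = 0 := fun χ hχ => by
    by_contra h
    have := CfsgLib.Contributions.height_add_two_le hM hB hχ h
    omega
  have hint : ∀ χ ψ : IrrCharacter G, ∃ z : ℤ, subContrib 2 x b (χ : G → ℂ) ψ = z := fun χ ψ => by
    have hroot : ∀ ξ : IrrCharacter (Subgroup.centralizer ({x} : Set G)),
        secRoot x ξ ∈ (Int.castRingHom ℂ).range := fun ξ => by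
      have h := secRoot_pow (p := 2) hxk' ξ
      have h' : secRoot x ξ ^ 2 = 1 := by
        obtain ⟨c, hc⟩ := pow_dvd_pow 2 hk1
        rw [pow_one] at hc
        rw [hc, pow_mul, h, one_pow]
      rcases sq_eq_one_iff.1 h' with h'' | h'' <;> rw [h'']
      · exact one_mem _
      · exact neg_mem (one_mem _)
    obtain ⟨n, m, z, -, -, -, -, he⟩ := subContrib_expand hM (b := b) χ ψ
    have : subContrib 2 x b (χ : G → ℂ) ψ ∈ (Int.castRingHom ℂ).range := by
      rw [he]
      refine Subring.sum_mem _ fun ξ _ => Subring.sum_mem _ fun η _ => ?_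
      obtain ⟨u, hu⟩ := hroot η
      rw [← hu, eq_intCast, map_intCast]
      exact mul_mem (mul_mem (mul_mem (natCast_mem _ _) (hroot ξ))
        (mul_mem (natCast_mem _ _) (intCast_mem _ _))) (intCast_mem _ _)
    obtain ⟨u, hu⟩ := this
    exact ⟨u, by rw [← hu, eq_intCast]⟩
  choose s hs using hint
  have hsymm : ∀ χ ψ, s χ ψ = s ψ χ := fun χ ψ => by
    apply Int.cast_injective (α := ℂ)
    rw [← hs, ← hs, ← subContrib_conj (χ : G → ℂ) (ψ : G → ℂ), hs, map_intCast]
  have hsum : ∀ χ, ∑ ψ, s χ ψ * s χ ψ = 4 * s χ χ := fun χ => by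
    apply Int.cast_injective (α := ℂ)
    have h := sum_secInner_mul hM hA hxk χ χ
    push_cast
    have e : ∀ ψ, (s χ ψ : ℂ) * s χ ψ =
        4 * (4 * (secInner 2 x b (χ : G → ℂ) ψ * secInner 2 x b (ψ : G → ℂ) χ)) := fun ψ => by
      conv_lhs => arg 2; rw [hsymm]
      rw [← hs, ← hs, subContrib, subContrib, hbd]
      push_cast
      ring
    rw [Finset.sum_congr rfl fun ψ _ => e ψ, ← Finset.mul_sum, ← Finset.mul_sum, h, ← hs, subContrib,
      hbd]
    push_cast
    ring
  have htr : ∑ χ, s χ χ = 4 := by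
    apply Int.cast_injective (α := ℂ)
    push_cast
    rw [Finset.sum_congr rfl fun χ _ => (hs χ χ).symm]
    simp only [subContrib]
    rw [← Finset.mul_sum, sum_secInner_self hM hA hxk, hl, hbd]
    norm_num
  have hodd : ∀ χ ∈ B, ∀ ψ ∈ B, 1 ≤ s χ ψ * s χ ψ := fun χ hχ ψ hψ => by
    have hne : s χ ψ ≠ 0 := fun h0 => subContrib_unit hM hxk hB hind hχ hψ (hht χ hχ) (hht ψ hψ)
      (by rw [hs, h0, Int.cast_zero]; exact CfsgLib.Blocks.memLocalIdeal_zero)
    have := mul_self_pos.2 hne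
    omega
  have hcard : B.toFinset.card = 4 := by
    rw [← hk, Nat.card_eq_fintype_card, Set.toFinset_card]
  have hdiag : ∀ χ ∈ B, s χ χ = 1 := by
    have hnn : ∀ χ, 0 ≤ s χ χ := fun χ => by
      have := hsum χ
      have h2 : 0 ≤ ∑ ψ, s χ ψ * s χ ψ := Finset.sum_nonneg fun ψ _ => mul_self_nonneg _
      omega
    have h1 : ∀ χ ∈ B.toFinset, (1 : ℤ) ≤ s χ χ := fun χ hχ => by
      have h3 := hodd χ (Set.mem_toFinset.1 hχ) χ (Set.mem_toFinset.1 hχ)
      have h0 := hnn χ
      nlinarith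
    have h2 : ∑ χ ∈ B.toFinset, s χ χ ≤ 4 := htr ▸
      Finset.sum_le_sum_of_subset_of_nonneg (Finset.subset_univ _) fun χ _ _ => hnn χ
    have h3 : ∑ χ ∈ B.toFinset, (1 : ℤ) = ∑ χ ∈ B.toFinset, s χ χ := by
      refine le_antisymm (Finset.sum_le_sum h1) ?_
      rw [Finset.sum_const, hcard]
      simpa using h2
    exact fun χ hχ => ((Finset.sum_eq_sum_iff_of_le h1).1 h3 χ (Set.mem_toFinset.2 hχ)).symm
  have hpm : ∀ χ ∈ B, ∀ ψ ∈ B, s χ ψ * s χ ψ = 1 := by
    intro χ hχ
    have h1 : ∀ ψ ∈ B.toFinset, (1 : ℤ) ≤ s χ ψ * s χ ψ := fun ψ hψ =>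
      hodd χ hχ ψ (Set.mem_toFinset.1 hψ)
    have h2 : ∑ ψ ∈ B.toFinset, s χ ψ * s χ ψ ≤ 4 := by
      refine le_trans (Finset.sum_le_sum_of_subset_of_nonneg (Finset.subset_univ _)
        fun ψ _ _ => mul_self_nonneg _) ?_
      rw [hsum, hdiag χ hχ, mul_one]
    have h3 : ∑ ψ ∈ B.toFinset, (1 : ℤ) = ∑ ψ ∈ B.toFinset, s χ ψ * s χ ψ := by
      refine le_antisymm (Finset.sum_le_sum h1) ?_
      rw [Finset.sum_const, hcard]
      simpa using h2
    exact fun ψ hψ => ((Finset.sum_eq_sum_iff_of_le h1).1 h3 ψ (Set.mem_toFinset.2 hψ)).symm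
  have hS : subContrib 2 x b (χ : G → ℂ) χ₀ = (s χ χ₀ : ℂ) := hs χ χ₀
  refine ⟨?_, fun y hy => ?_⟩
  · rw [hS]
    rcases mul_self_eq_one_iff.1 (hpm χ hχ χ₀ hχ₀) with h | h <;> rw [h] <;> simp
  set D := subContrib 2 x b (χ : G → ℂ) χ₀ with hD
  have hI : ∀ φ ψ : IrrCharacter G,
      regInner 2 (secVal x b (φ : G → ℂ)) (secVal x b (ψ : G → ℂ)) = (s φ ψ : ℂ) / 4 := fun φ ψ => by
    rw [← hs, subContrib, hbd, secInner]
    push_cast
    ring
  have hv : regInner 2 (fun y => secVal x b (χ : G → ℂ) y - D * secVal x b (χ₀ : G → ℂ) y)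
      (fun y => secVal x b (χ : G → ℂ) y - D * secVal x b (χ₀ : G → ℂ) y) = 0 := by
    have hexp : regInner 2 (fun y => secVal x b (χ : G → ℂ) y - D * secVal x b (χ₀ : G → ℂ) y)
        (fun y => secVal x b (χ : G → ℂ) y - D * secVal x b (χ₀ : G → ℂ) y) =
        regInner 2 (secVal x b (χ : G → ℂ)) (secVal x b (χ : G → ℂ)) -
          conj D * regInner 2 (secVal x b (χ : G → ℂ)) (secVal x b (χ₀ : G → ℂ)) -
          D * regInner 2 (secVal x b (χ₀ : G → ℂ)) (secVal x b (χ : G → ℂ)) +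
          D * conj D * regInner 2 (secVal x b (χ₀ : G → ℂ)) (secVal x b (χ₀ : G → ℂ)) := by
      simp only [regInner, Finset.mul_sum, ← Finset.sum_sub_distrib, ← Finset.sum_add_distrib]
      refine Finset.sum_congr rfl fun z _ => ?_
      split_ifs with hz
      · simp
      · rw [map_sub, map_mul]; ring
    have hsq : ((s χ χ₀ : ℤ) : ℂ) * (s χ χ₀ : ℂ) = 1 := by
      exact_mod_cast hpm χ hχ χ₀ hχ₀
    rw [hexp, hI, hI, hI, hI, hdiag χ hχ, hdiag χ₀ hχ₀, hsymm χ₀ χ, hS, map_intCast]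
    push_cast
    linear_combination (-(1 / 4) : ℂ) * hsq
  exact sub_eq_zero.1 (eq_zero_of_regInner_self hv hy)

variable {p : ℕ}

/-- A local combination of characters vanishing on the singular elements is divisible by the
orders of the centralizers. -/
theorem memLocalRing_div_of_vanish [hp : Fact p.Prime] (hM : Cfsg.IsPModular p M)
    (c : IrrCharacter G → ℂ) (hc : ∀ χ, Cfsg.MemLocalRing M (c χ))
    (h0 : ∀ g, p ∣ orderOf g → ∑ χ, c χ * (χ : G → ℂ) g = 0) {g : G} (hg : ¬ p ∣ orderOf g) :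
    Cfsg.MemLocalRing M ((∑ χ, c χ * (χ : G → ℂ) g) /
      (Nat.card (Subgroup.centralizer ({g} : Set G)) : ℂ)) := by
  classical
  set f : G → ℂ := fun x => ∑ χ, c χ * (χ : G → ℂ) x with hf
  obtain ⟨P, hP, -⟩ := CfsgLib.Blocks.exists_isSylowIn_ge (p := p)
    (K := Subgroup.centralizer ({g} : Set G)) IsPGroup.of_bot bot_le
  haveI := Fintype.ofFinite P
  have hgP : g ∈ Subgroup.centralizer (P : Set G) := Subgroup.mem_centralizer_iff.2 fun y hy =>
    Subgroup.mem_centralizer_singleton_iff.1 (hP.1 hy)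
  have havg : ∑ y : P, f (g * y) = f g := by
    rw [Finset.sum_eq_single (1 : P) _ (by simp), OneMemClass.coe_one, mul_one]
    intro y _ hy
    refine h0 _ (by_contra fun h => hy (Subtype.ext ?_))
    exact CfsgLib.Blocks.regular_mul_pgroup_eq hP.2.1 y.2 hg
      (Subgroup.mem_centralizer_singleton_iff.1 (hP.1 y.2)).symm h
  have hloc : Cfsg.MemLocalRing M ((Nat.card P : ℂ)⁻¹ * f g) := by
    rw [← havg]
    simp only [hf]
    rw [Finset.sum_comm, Finset.mul_sum]
    refine Subring.sum_mem (localRing M) fun χ _ => ?_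
    rw [← Finset.mul_sum, mul_left_comm]
    exact Subring.mul_mem (localRing M) (hc χ) (CfsgLib.Blocks.memLocalRing_avg hM hg hgP χ)
  have hidx : Nat.card (Subgroup.centralizer ({g} : Set G)) =
      P.relIndex (Subgroup.centralizer ({g} : Set G)) * Nat.card P := by
    rw [← Subgroup.index_mul_card (P.subgroupOf (Subgroup.centralizer ({g} : Set G))),
      Nat.card_congr (Subgroup.subgroupOfEquivOfLe hP.1).toEquiv]
    rfl
  rw [hidx, Nat.cast_mul, div_eq_mul_inv, mul_inv]
  have := Subring.mul_mem (localRing M) hloc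
    (CfsgLib.Blocks.memLocalRing_natCast_inv hM hP.2.2)
  show Cfsg.MemLocalRing M (f g * _)
  rw [show f g * ((P.relIndex (Subgroup.centralizer ({g} : Set G)) : ℂ)⁻¹ * (Nat.card P : ℂ)⁻¹) =
    (Nat.card P : ℂ)⁻¹ * f g * (P.relIndex (Subgroup.centralizer ({g} : Set G)) : ℂ)⁻¹ by ring]
  exact this

theorem centralizer_singleton_eq_of_pPart [hp : Fact p.Prime] {w : G} (hw : ∃ k, orderOf w = p ^ k)
    {s : ↥(Subgroup.centralizer ({w} : Set G))} (hs : ¬ p ∣ orderOf s) :
    Nat.card (Subgroup.centralizer ({w * (s : G)} : Set G)) =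
      Nat.card (Subgroup.centralizer ({s} : Set ↥(Subgroup.centralizer ({w} : Set G)))) := by
  have hws : w * (s : G) = (s : G) * w := (Subgroup.mem_centralizer_singleton_iff.1 s.2).symm
  refine Nat.card_congr
    { toFun := fun c => ⟨⟨c.1, ?_⟩, ?_⟩
      invFun := fun c => ⟨(c.1 : G), ?_⟩
      left_inv := fun c => rfl
      right_inv := fun c => rfl }
  · have hc := mul_inv_eq_iff_eq_mul.2 (Subgroup.mem_centralizer_singleton_iff.1 c.2)
    have h1 := CfsgLib.Star.pPart_conj (p := p) c.1 (w * (s : G))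
    rw [hc, CfsgLib.Star.pPart_mul_regular hw hs] at h1
    exact Subgroup.mem_centralizer_singleton_iff.2 (mul_inv_eq_iff_eq_mul.1 h1.symm)
  · refine Subgroup.mem_centralizer_singleton_iff.2 (Subtype.ext ?_)
    show c.1 * (s : G) = (s : G) * c.1
    have hc := Subgroup.mem_centralizer_singleton_iff.1 c.2
    have hcw : c.1 * w = w * c.1 := by
      have hc' := mul_inv_eq_iff_eq_mul.2 hc
      have h1 := CfsgLib.Star.pPart_conj (p := p) c.1 (w * (s : G))
      rw [hc', CfsgLib.Star.pPart_mul_regular hw hs] at h1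
      exact mul_inv_eq_iff_eq_mul.1 h1.symm
    rw [← mul_assoc, hcw, mul_assoc, mul_assoc] at hc
    exact mul_left_cancel hc
  · have h1 := Subgroup.mem_centralizer_singleton_iff.1 c.1.2
    have h2 : (c.1 : G) * (s : G) = (s : G) * (c.1 : G) :=
      congrArg Subtype.val (Subgroup.mem_centralizer_singleton_iff.1 c.2)
    refine Subgroup.mem_centralizer_singleton_iff.2 ?_
    rw [← mul_assoc, h1, mul_assoc, h2, ← mul_assoc]

/-- The regular values of a translate are local, four times them divisible by the centralizer. -/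
theorem memLocalRing_secVal (hM : Cfsg.IsPModular 2 M) {w : G} (hwk : ∃ k, orderOf w = 2 ^ k)
    [Fintype (Subgroup.centralizer ({w} : Set G))]
    {f : Set (IrrCharacter (Subgroup.centralizer ({w} : Set G)))}
    (hfd : Cfsg.blockDefect 2 f = 2) (χ : IrrCharacter G)
    {s : ↥(Subgroup.centralizer ({w} : Set G))} (hs : ¬ 2 ∣ orderOf s) :
    Cfsg.MemLocalRing M (secVal w f (χ : G → ℂ) s) ∧
      Cfsg.MemLocalRing M (4 * secVal w f (χ : G → ℂ) s /
        (Nat.card (Subgroup.centralizer ({w * (s : G)} : Set G)) : ℂ)) := by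
  classical
  haveI : Fact (Nat.Prime 2) := ⟨Nat.prime_two⟩
  obtain ⟨k, hwk'⟩ := id hwk
  let H : Subgroup G := Subgroup.centralizer ({w} : Set G)
  choose n hn using fun ξ : IrrCharacter H => Characters.classInner_character_irr
    (Characters.isCharacter_restrict H (Characters.isCharacter_of_isIrr χ.2)) ξ.2
  have hroot : ∀ ξ : IrrCharacter H, secCoef w (χ : G → ℂ) ξ ∈ localRing M := fun ξ => by
    rw [secCoef_eq, hn]
    refine Subring.mul_mem (localRing M) (CfsgLib.Blocks.memLocalRing_natCast _)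
      (CfsgLib.Blocks.memLocalRing_of_isIntegral ?_)
    refine IsIntegral.of_pow (pow_pos (by norm_num : 0 < 2) k) ?_
    rw [secRoot_pow hwk' ξ]
    exact isIntegral_one
  refine ⟨Subring.sum_mem (localRing M) fun ξ _ =>
    Subring.mul_mem _ (hroot ξ) (CfsgLib.Blocks.memLocalRing_char ξ s), ?_⟩
  let c : IrrCharacter H → ℂ := fun η =>
    ∑ ξ ∈ f.toFinset, secCoef w (χ : G → ℂ) ξ * (4 * regInner 2 (ξ : H → ℂ) η)
  have hclv : Cfsg.IsClassFunction H (secVal w f (χ : G → ℂ)) := fun a b =>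
    Finset.sum_congr rfl fun ξ _ => by rw [Characters.isClassFunction_of_isIrr ξ.2]
  have hexp : ∀ z : H, ∑ η : IrrCharacter H, c η * (η : H → ℂ) z =
      4 * Cfsg.pRegularPart 2 (secVal w f (χ : G → ℂ)) z := by
    intro z
    have h := congrFun (Characters.classFunction_expansion
      (BlockPairing.isClassFunction_pRegularPart 2 hclv)) z
    rw [Finset.sum_apply] at h
    rw [h, Finset.mul_sum]
    refine Finset.sum_congr rfl fun η _ => ?_
    rw [Pi.smul_apply, smul_eq_mul, BlockPairing.classInner_pRegularPart,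
      show secVal w f (χ : G → ℂ) = fun y => ∑ ξ ∈ f.toFinset,
        secCoef w (χ : G → ℂ) ξ * (ξ : H → ℂ) y from rfl,
      CfsgLib.BlocksCharsC.regInner_sum_left]
    simp only [c, Finset.sum_mul, Finset.mul_sum]
    exact Finset.sum_congr rfl fun ξ _ => by ring
  have hc : ∀ η, Cfsg.MemLocalRing M (c η) := fun η =>
    Subring.sum_mem (localRing M) fun ξ hξ => Subring.mul_mem _ (hroot ξ) (by
      obtain ⟨z, hz⟩ := BlockPairing.exists_int_pow_defect (p := 2) (Set.mem_toFinset.1 hξ) η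
      rw [hfd] at hz
      norm_num at hz
      rw [hz]
      exact intCast_mem (localRing M) z)
  have h := memLocalRing_div_of_vanish hM c hc (fun z hz => by
    rw [hexp, BlockPairing.pRegularPart_apply, if_pos hz, mul_zero]) hs
  rw [hexp, BlockPairing.pRegularPart_apply, if_neg hs,
    ← centralizer_singleton_eq_of_pPart hwk hs] at h
  exact h

variable [CharP (Res M) 2] [IsAlgClosed (Res M)] {B : Set (IrrCharacter G)} {P : Subgroup G}
  {eP : GA (Res M) G}

theorem stab_transitive [IsKleinFour P] (hB : Cfsg.IsPBlock M B)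
    (hmax : IsMaxPair 2 ⊤ (gblk M B) P eP)
    (h : ¬ stab ⊤ P eP ≤ Subgroup.centralizer (P : Set G)) {u : G} (hu : u ∈ P) (hu1 : u ≠ 1)
    {y : G} (hy : y ∈ P) (hy1 : y ≠ 1) : ∃ t ∈ stab ⊤ P eP, t * u * t⁻¹ = y := by
  haveI : Fact (Nat.Prime 2) := ⟨Nat.prime_two⟩
  obtain ⟨t, ht, htC⟩ := SetLike.not_le_iff_exists.1 h
  have htN := stab_le_normalizer ht
  have hv : t * u * t⁻¹ ∈ P := (Subgroup.mem_normalizer_iff.1 htN u).1 hu
  have hw : t * (t * u * t⁻¹) * t⁻¹ ∈ P := (Subgroup.mem_normalizer_iff.1 htN _).1 hv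
  have hv1 : t * u * t⁻¹ ≠ 1 := fun h' => hu1 (conj_eq_one_iff.1 h')
  have hw1 : t * (t * u * t⁻¹) * t⁻¹ ≠ 1 := fun h' => hv1 (conj_eq_one_iff.1 h')
  have hne : u ≠ t * u * t⁻¹ := fun h' => htC (klein_free hB hmax ht hu hu1 h'.symm)
  have hne2 : u ≠ t * (t * u * t⁻¹) * t⁻¹ := fun h' => htC <| by
    refine mem_centralizer_of_pow (isBlock_gblk hB) hmax klein_le_centralizer ht 1 ?_
    rw [pow_one, sq]
    refine klein_free hB hmax (mul_mem ht ht) hu hu1 ?_
    conv_rhs => rw [h']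
    group
  have hne3 : t * u * t⁻¹ ≠ t * (t * u * t⁻¹) * t⁻¹ := fun h' => hne
    (mul_left_cancel (mul_right_cancel h'))
  rcases klein_cases hu hv hu1 hv1 hne hy with h' | h' | h' | h'
  · rcases klein_cases hu hv hu1 hv1 hne hw with h'' | h'' | h'' | h''
    · refine ⟨t * t, mul_mem ht ht, ?_⟩
      rw [h', ← h'']
      group
    · exact absurd h''.symm hne2
    · exact absurd h''.symm hne3
    · exact absurd h'' hw1
  · exact ⟨1, one_mem _, by simp [h']⟩
  · exact ⟨t, ht, h'.symm⟩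
  · exact absurd h' hy1

/-- What the perfect isometry needs to know about the block. -/
structure KleinData (M : Ideal AlgInt) (B : Set (IrrCharacter G)) (L : G → Prop)
    (V : IrrCharacter G → ℂ) : Prop where
  sign : ∀ χ ∈ B, V χ = 1 ∨ V χ = -1
  line : ∀ g, L g → ∀ χ ∈ B, ∀ ψ ∈ B, V χ * (χ : G → ℂ) g = V ψ * (ψ : G → ℂ) g
  orth : ∀ g, ¬ L g → ∑ᶠ χ ∈ B, V χ * (χ : G → ℂ) g = 0
  dec : ∀ g, L g ∨ 2 ∣ orderOf g → ∃ (m : ℕ) (φ : Fin m → ℂ) (D : Fin m → IrrCharacter G → ℂ),
    (∀ i, Cfsg.MemLocalRing M (φ i) ∧ Cfsg.MemLocalRing M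
      (4 * φ i / (Nat.card (Subgroup.centralizer ({g} : Set G)) : ℂ))) ∧
    (∀ i, ∀ χ ∈ B, D i χ = 1 ∨ D i χ = -1) ∧
    (∀ χ ∈ B, (χ : G → ℂ) g = ∑ i, D i χ * φ i) ∧
    (¬ L g → ∀ i, ∑ᶠ χ ∈ B, V χ * D i χ = 0)

open Classical in
/-- The data of a block with a Klein four defect group, for the fusion given by `E`. -/
theorem kleinData [IsKleinFour P] (hM : Cfsg.IsPModular 2 M) (hB : Cfsg.IsPBlock M B)
    (hPD : Cfsg.IsDefectGroup 2 M B P) (hmax : IsMaxPair 2 ⊤ (gblk M B) P eP) {E : Prop}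
    (hE : E ↔ stab ⊤ P eP ≤ Subgroup.centralizer (P : Set G)) :
    ∃ V, KleinData M B (fun g => ¬ 2 ∣ orderOf g ↔ E) V := by
  haveI : Fact (Nat.Prime 2) := ⟨Nat.prime_two⟩
  have hab : P ≤ Subgroup.centralizer (P : Set G) := klein_le_centralizer
  have hk := card_klein hM hB hPD hmax
  have hBd : Cfsg.blockDefect 2 B = 2 := by
    have h := CfsgLib.Blocks.card_defectGroup hM hB hPD
    rw [IsKleinFour.card_four] at h
    exact (Nat.pow_right_injective le_rfl (show 2 ^ 2 = 2 ^ Cfsg.blockDefect 2 B from h)).symm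
  obtain ⟨χ₀, hχ₀⟩ := CfsgLib.Blocks.isPBlock_nonempty hB
  let Dw : G → IrrCharacter G → ℂ := fun w χ => cval 2 P eP (χ : G → ℂ) (χ₀ : G → ℂ) w
  -- the subsection at an element of `P`
  have hspec : ∀ w ∈ P, (w ≠ 1 ∨ E) → ∀ χ ∈ B, (Dw w χ = 1 ∨ Dw w χ = -1) ∧
      ∀ s : ↥(Subgroup.centralizer ({w} : Set G)), ¬ 2 ∣ orderOf s →
        T M (χ : G → ℂ) (w * (s : G)) (below 2 P eP (Subgroup.zpowers w)) =
          Dw w χ * T M (χ₀ : G → ℂ) (w * (s : G)) (below 2 P eP (Subgroup.zpowers w)) ∧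
        Cfsg.MemLocalRing M (T M (χ₀ : G → ℂ) (w * (s : G)) (below 2 P eP (Subgroup.zpowers w))) ∧
        Cfsg.MemLocalRing M
          (4 * T M (χ₀ : G → ℂ) (w * (s : G)) (below 2 P eP (Subgroup.zpowers w)) /
            (Nat.card (Subgroup.centralizer ({w * (s : G)} : Set G)) : ℂ)) := by
    intro w hw hw1 χ hχ
    haveI := Fintype.ofFinite ↥(Subgroup.centralizer ({w} : Set G))
    obtain ⟨hwk, f, hf, hind, hle⟩ := CfsgLib.Star.exists_sub hM hB hmax hw
    have hC := centralizer_zpowers w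
    have hPC : P ≤ Subgroup.centralizer ({w} : Set G) :=
      hC ▸ le_centralizer_of_le hab (Subgroup.zpowers_le.2 hw)
    have hmC := maxPair_below hB hmax hab (Subgroup.zpowers_le.2 hw)
    rw [CfsgLib.Star.below_eq hmax hle, hC] at hmC
    have hfd : Cfsg.blockDefect 2 f = 2 := by
      have h := CfsgLib.Blocks.card_defectGroup hM hf
        ((isDefectGroup_subgroupOf_iff hf hPC).2 (hmC.isDefectGrp (isBlock_sblk hf)).1)
      rw [Nat.card_congr (Subgroup.subgroupOfEquivOfLe hPC).toEquiv, IsKleinFour.card_four] at h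
      exact (Nat.pow_right_injective le_rfl (show 2 ^ 2 = 2 ^ Cfsg.blockDefect 2 f from h)).symm
    have hl : Cfsg.blockRank 2 f = 1 := by
      by_cases h1 : w = 1
      · subst h1
        have hn := nilp_of_stab_le hB hab hmax (hE.1 (hw1.resolve_left (fun h => h rfl)))
        have hge := card_ge_of_nilp hM hB hPD hab hn
        have hl1 := CfsgLib.BlockPairing.one_le_blockRank (p := 2)
          (CfsgLib.Blocks.isPBlock_nonempty hB)
        rw [hk, IsKleinFour.card_four] at hge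
        have hr := rk_of_centralizer_top hB hmax hab hM (Subgroup.zpowers_le.2 hw)
          (Subgroup.centralizer_eq_top_iff_subset.2 fun y hy => by
            rw [Subgroup.zpowers_one_eq_bot, SetLike.mem_coe, Subgroup.mem_bot] at hy
            subst hy; exact one_mem _)
        rw [rk, CfsgLib.Star.below_eq hmax hle, hC, rkE_sblk hf] at hr
        omega
      · exact (rank_one_below hM hB hmax hw h1 hf hle).2
    have hw2 : orderOf w ∣ 2 := orderOf_dvd_of_pow_eq_one (by rw [sq]; exact klein_sq hw)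
    have hcard : Nat.card ↥(P ⊓ cent ⊤ (Subgroup.zpowers w)) = 2 ^ Cfsg.blockDefect 2 f := by
      rw [cent_top, hC, inf_eq_left.2 hPC, hfd, IsKleinFour.card_four]
      norm_num
    have hcv : ∀ φ : IrrCharacter G,
        Dw w φ = subContrib 2 w f (φ : G → ℂ) χ₀ := fun φ =>
      CfsgLib.Star.cval_eq_subContrib hM hB hmax hf hle hcard
        (Characters.isClassFunction_of_isIrr φ.2) (Characters.isClassFunction_of_isIrr χ₀.2)
    obtain ⟨hsgn, hval⟩ := exists_sign_vector hM hw2 hB hBd hk hind hfd hl hχ₀ hχ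
    rw [hcv]
    refine ⟨hsgn, fun s hs => ?_⟩
    have hfu := isBlockUnion_of_isPBlock hf
    have hsec : ∀ φ : IrrCharacter G, T M (φ : G → ℂ) (w * (s : G))
        (sblk M (Subgroup.centralizer ({w} : Set G)) f) = secVal w f (φ : G → ℂ) s := fun φ => by
      rw [CfsgLib.Star.T_sblk hM hfu (Characters.isClassFunction_of_isIrr φ.2), secVal,
        Cfsg.blockPart, CfsgLib.Blocks.finsum_irr_mem,
        show Fintype.ofFinite ↥(Subgroup.centralizer ({w} : Set G)) = ‹_› from Subsingleton.elim _ _,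
        ← Finset.sum_filter]
      exact Finset.sum_congr (by ext; simp) fun ξ _ => rfl
    rw [CfsgLib.Star.below_eq hmax hle, hsec, hsec]
    exact ⟨hval s hs, memLocalRing_secVal hM hwk hfd χ₀ hs⟩
  -- orthogonality to what vanishes on the singular elements
  have hperp : ∀ w ∈ P, w ≠ 1 → ∀ c : IrrCharacter G → ℂ,
      (∀ z, 2 ∣ orderOf z → ∑ χ ∈ B.toFinset, c χ * (χ : G → ℂ) z = 0) →
        ∑ χ ∈ B.toFinset, c χ * Dw w χ = 0 := by
    intro w hw hw1 c hc
    haveI := Fintype.ofFinite ↥(Subgroup.centralizer ({w} : Set G))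
    obtain ⟨hwk, f, hf, -, hle⟩ := CfsgLib.Star.exists_sub hM hB hmax hw
    have hfu := isBlockUnion_of_isPBlock hf
    set H := Subgroup.centralizer ({w} : Set G) with hH
    have hkey : ∀ s : H, ¬ 2 ∣ orderOf s →
        ∑ χ ∈ B.toFinset, c χ * T M (χ : G → ℂ) (w * (s : G))
          (below 2 P eP (Subgroup.zpowers w)) = 0 := by
      intro s hs
      let F : H → ℂ := fun y => ∑ χ ∈ B.toFinset, c χ * (χ : G → ℂ) (w * (y : G))
      have hFc : Cfsg.IsClassFunction H F := fun a b => Finset.sum_congr rfl fun χ _ => by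
        exact congrArg (c χ * ·) (CfsgLib.Blocks.isClassFunction_translate (χ : G → ℂ)
          (Characters.isClassFunction_of_isIrr χ.2) w a b)
      have hF0 : ∀ z : H, ¬ 2 ∣ orderOf z → F z = 0 := fun z hz => hc _ (by
        by_contra hh
        have h1 := CfsgLib.Star.pPart_mul_regular (p := 2) hwk hz
        have h2 : CfsgLib.Star.pPart 2 (w * (z : G)) = 1 := CfsgLib.Star.pPart_eq
          ⟨_, one_mul _, Commute.one_left _, ⟨0, by simp⟩, hh⟩
        exact hw1 (h1.symm.trans h2))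
      rw [CfsgLib.Star.below_eq hmax hle]
      have hrel := CfsgLib.Blocks.sum_union_eq_zero hM hfu
        (fun ξ => Cfsg.classInner F (ξ : H → ℂ)) (fun z hz => by
          have h := congrFun (Characters.classFunction_expansion hFc) z
          rw [Finset.sum_apply, hF0 z hz] at h
          exact h.symm) hs
      refine Eq.trans ?_ hrel
      rw [Finset.sum_congr rfl fun χ _ => by
        rw [CfsgLib.Star.T_sblk hM hfu (Characters.isClassFunction_of_isIrr χ.2), Cfsg.blockPart,
          CfsgLib.Blocks.finsum_irr_mem,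
          show Fintype.ofFinite ↥(Subgroup.centralizer ({w} : Set G)) = ‹_› from
            Subsingleton.elim _ _, Finset.mul_sum]]
      rw [Finset.sum_comm]
      refine Finset.sum_congr rfl fun ξ _ => ?_
      split_ifs with hξ
      · simp only [F, Cfsg.classInner, Finset.mul_sum, Finset.sum_mul]
        rw [Finset.sum_comm]
        exact Finset.sum_congr rfl fun z _ => Finset.sum_congr rfl fun χ _ => by ring
      · exact Finset.sum_eq_zero fun χ _ => mul_zero _
    simp only [Dw, cval]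
    rw [CfsgLib.Star.cent_zpowers]
    simp only [CfsgLib.Star.nsum_eq_sum, Finset.mul_sum]
    rw [Finset.sum_comm]
    refine Finset.sum_eq_zero fun s _ => ?_
    split_ifs with hs
    · simp
    · calc _ = CfsgLib.Star.wt P w *
          conj (T M (χ₀ : G → ℂ) (w * (s : G)) (below 2 P eP (Subgroup.zpowers w))) *
            ∑ χ ∈ B.toFinset, c χ * T M (χ : G → ℂ) (w * (s : G))
              (below 2 P eP (Subgroup.zpowers w)) := by
            rw [Finset.mul_sum]; exact Finset.sum_congr rfl fun χ _ => by ring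
        _ = 0 := by rw [hkey s hs, mul_zero]
  have hreg : ∀ g : G, CfsgLib.Star.pPart 2 g = 1 ↔ ¬ 2 ∣ orderOf g := fun g => by
    refine ⟨fun h => ?_, fun h => CfsgLib.Star.pPart_eq
      ⟨g, one_mul g, Commute.one_left g, ⟨0, by simp⟩, h⟩⟩
    obtain ⟨y, hy, -, -, hyr⟩ := CfsgLib.Star.pPart_spec (p := 2) g
    rw [h, one_mul] at hy
    subst hy
    exact hyr
  -- the decomposition at any element whose side has rank one
  have hdec : ∀ g : G, (E ∨ 2 ∣ orderOf g) → ∃ (m : ℕ) (φ : Fin m → ℂ) (w : Fin m → G),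
      (∀ i, w i ∈ P ∧ (w i = 1 ↔ ¬ 2 ∣ orderOf g)) ∧
      (∀ i, Cfsg.MemLocalRing M (φ i) ∧ Cfsg.MemLocalRing M
        (4 * φ i / (Nat.card (Subgroup.centralizer ({g} : Set G)) : ℂ))) ∧
      ∀ χ ∈ B, (χ : G → ℂ) g = ∑ i, Dw (w i) χ * φ i := by
    intro g hg
    let S : Finset (GA (Res M) G) :=
      (blocks (Res M) (cent ⊤ (Subgroup.zpowers (CfsgLib.Star.pPart 2 g)))).filter fun e =>
        ∃ y, Le 2 ⊤ (cj y (Subgroup.zpowers (CfsgLib.Star.pPart 2 g))) (conjA (Res M) y e) P eP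
    have hS : ∀ i : Fin S.card, ∃ y, Le 2 ⊤ (cj y (Subgroup.zpowers (CfsgLib.Star.pPart 2 g)))
        (conjA (Res M) y (S.equivFin.symm i : GA (Res M) G)) P eP := fun i =>
      (Finset.mem_filter.1 (S.equivFin.symm i).2).2
    choose y hy using hS
    let w : Fin S.card → G := fun i => y i * CfsgLib.Star.pPart 2 g * (y i)⁻¹
    have hwP : ∀ i, w i ∈ P := fun i =>
      (hy i).subgroup_le (mem_cj.2 (by simp [w, mul_assoc]))
    have hw1 : ∀ i, w i = 1 ↔ ¬ 2 ∣ orderOf g := fun i => by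
      rw [← hreg g]
      exact conj_eq_one_iff
    have hsp : ∀ i : Fin S.card, ∀ χ ∈ B,
        T M (χ : G → ℂ) g (S.equivFin.symm i : GA (Res M) G) =
          Dw (w i) χ * T M (χ₀ : G → ℂ) g (S.equivFin.symm i : GA (Res M) G) ∧
        Cfsg.MemLocalRing M (T M (χ₀ : G → ℂ) g (S.equivFin.symm i : GA (Res M) G)) ∧
        Cfsg.MemLocalRing M (4 * T M (χ₀ : G → ℂ) g (S.equivFin.symm i : GA (Res M) G) /
          (Nat.card (Subgroup.centralizer ({g} : Set G)) : ℂ)) := by
      intro i χ hχ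
      set e : GA (Res M) G := (S.equivFin.symm i : GA (Res M) G) with he
      have heb := (Finset.mem_filter.1 (S.equivFin.symm i).2).1
      rw [← he] at heb
      obtain ⟨z, hz, hc, hzk, hzr⟩ := CfsgLib.Star.pPart_spec (p := 2) g
      set x := CfsgLib.Star.pPart 2 g
      have hcz : y i * z * (y i)⁻¹ ∈ Subgroup.centralizer ({w i} : Set G) := by
        refine Subgroup.mem_centralizer_singleton_iff.2 ?_
        simp only [w]
        calc y i * z * (y i)⁻¹ * (y i * x * (y i)⁻¹) = y i * (z * x) * (y i)⁻¹ := by group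
          _ = y i * x * (y i)⁻¹ * (y i * z * (y i)⁻¹) := by rw [← hc.eq]; group
      have hor : ¬ 2 ∣ orderOf (⟨_, hcz⟩ : ↥(Subgroup.centralizer ({w i} : Set G))) := by
        rwa [Subgroup.orderOf_mk, show y i * z * (y i)⁻¹ = MulAut.conj (y i) z from rfl,
          MulEquiv.orderOf_eq]
      have hside : w i ≠ 1 ∨ E := by
        rcases hg with hg | hg
        · exact Or.inr hg
        · exact Or.inl fun h => (hw1 i).1 h hg
      obtain ⟨-, hval⟩ := hspec (w i) (hwP i) hside χ hχ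
      obtain ⟨h1, h2, h3⟩ := hval ⟨_, hcz⟩ hor
      have hg' : w i * (y i * z * (y i)⁻¹) = y i * g * (y i)⁻¹ := by
        show y i * x * (y i)⁻¹ * _ = _
        conv_rhs => rw [← hz]
        group
      have hle := hy i
      rw [CfsgLib.Star.cj_zpowers] at hle
      have hbel : below 2 P eP (Subgroup.zpowers (w i)) = conjA (Res M) (y i) e :=
        CfsgLib.Star.below_eq hmax hle
      have hT : ∀ φ : IrrCharacter G, T M (φ : G → ℂ) (w i * (y i * z * (y i)⁻¹))
          (below 2 P eP (Subgroup.zpowers (w i))) = T M (φ : G → ℂ) g e := fun φ => by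
        rw [hg', hbel, CfsgLib.Star.T_conj (Characters.isClassFunction_of_isIrr φ.2)
          (mem_blocks.1 heb).idem (CfsgLib.Star.conjA_block heb)]
      have hcardg : Nat.card (Subgroup.centralizer ({w i * (y i * z * (y i)⁻¹)} : Set G)) =
          Nat.card (Subgroup.centralizer ({g} : Set G)) := by
        rw [hg', CfsgLib.Blocks.centralizer_singleton_conj, Subgroup.card_map_of_injective
          (f := (MulAut.conj (y i)).toMonoidHom) (MulAut.conj (y i)).injective]
      simp only [hT, hcardg] at h1 h2 h3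
      exact ⟨h1, h2, h3⟩
    refine ⟨S.card, fun i => T M (χ₀ : G → ℂ) g (S.equivFin.symm i : GA (Res M) G), w,
      fun i => ⟨hwP i, hw1 i⟩, fun i => (hsp i χ₀ hχ₀).2, fun χ hχ => ?_⟩
    rw [← CfsgLib.Star.sum_T_blocks (M := M) (p := 2) (Characters.isClassFunction_of_isIrr χ.2) g]
    calc _ = ∑ e ∈ S, T M (χ : G → ℂ) g e := by
          refine (Finset.sum_subset (Finset.filter_subset _ _) fun e he hne => ?_).symm
          by_contra hT
          exact hne (Finset.mem_filter.2
            ⟨he, CfsgLib.Star.exists_conj_of_T_ne_zero hM hB hmax hχ he hT⟩)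
      _ = _ := by
          rw [← Finset.sum_coe_sort]
          refine Fintype.sum_equiv S.equivFin _ _ fun e => ?_
          have h := (hsp (S.equivFin e) χ hχ).1
          simpa using h
  obtain ⟨u, hu, hu1, -⟩ := exists_ne_klein (P := P) 1
  let w₀ : G := if E then 1 else u
  have hw₀ : w₀ ∈ P ∧ (w₀ ≠ 1 ∨ E) := by
    by_cases h : E
    · exact ⟨by simp [w₀, h], Or.inr h⟩
    · exact ⟨by simp [w₀, h, hu], Or.inl (by simp [w₀, h, hu1])⟩
  have hsg : ∀ χ ∈ B, Dw w₀ χ = 1 ∨ Dw w₀ χ = -1 := fun χ hχ =>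
    (hspec w₀ hw₀.1 hw₀.2 χ hχ).1
  have hline : ∀ g, (¬ 2 ∣ orderOf g ↔ E) → ∀ χ ∈ B, ∀ ψ ∈ B,
      Dw w₀ χ * (χ : G → ℂ) g = Dw w₀ ψ * (ψ : G → ℂ) g := by
    intro g hg χ hχ ψ hψ
    have hside : E ∨ 2 ∣ orderOf g := by tauto
    obtain ⟨m, φ, w, hw, -, hval⟩ := hdec g hside
    have heq : ∀ i, ∀ φ' : IrrCharacter G, Dw (w i) φ' = Dw w₀ φ' := by
      intro i φ'
      obtain ⟨hwP, hwi⟩ := hw i
      by_cases h : E
      · simp [w₀, h, hwi.2 (hg.2 h)]
      · simp only [w₀, if_neg h]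
        obtain ⟨t, ht, htu⟩ := stab_transitive hB hmax (fun h' => h (hE.2 h')) hu hu1 hwP
          (fun h' => h (hg.1 (hwi.1 h')))
        have hleu := CfsgLib.Star.le_below hmax hu
        have hl2 := hleu.conjA (x := t) (Subgroup.mem_top _)
        rw [CfsgLib.Star.cj_zpowers, cj_eq_self (stab_le_normalizer ht), (mem_stab.1 ht).2, htu]
          at hl2
        have hwt : CfsgLib.Star.wt P (t * u * t⁻¹) = CfsgLib.Star.wt P u := by
          have h1 : ∀ v ∈ P, P ⊓ cent ⊤ (Subgroup.zpowers v) = P := fun v hv => inf_eq_left.2 (by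
            rw [cent_top]
            exact le_centralizer_of_le hab (Subgroup.zpowers_le.2 hv))
          rw [CfsgLib.Star.wt, CfsgLib.Star.wt, h1 u hu, h1 _ (by rw [htu]; exact hwP),
            ← CfsgLib.Star.cj_zpowers, ← CfsgLib.Star.cj_cent_top, card_cj]
        simp only [Dw, cval]
        rw [CfsgLib.Star.below_eq hmax hl2, ← htu, hwt, CfsgLib.Star.nsum_conj
          (Characters.isClassFunction_of_isIrr φ'.2) (Characters.isClassFunction_of_isIrr χ₀.2)
          t u (mem_blocks.1 (CfsgLib.Star.below_mem_blocks hmax hu))]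
    have hone : ∀ φ' ∈ B, Dw w₀ φ' * (φ' : G → ℂ) g = ∑ i, φ i := fun φ' hφ' => by
      rw [hval φ' hφ', Finset.mul_sum]
      refine Finset.sum_congr rfl fun i _ => ?_
      rw [heq i φ', ← mul_assoc]
      rcases hsg φ' hφ' with h | h <;> rw [h] <;> simp
    rw [hone χ hχ, hone ψ hψ]
  have hBu := isBlockUnion_of_isPBlock hB
  have horth : ∀ g, ¬ (¬ 2 ∣ orderOf g ↔ E) →
      ∑ χ ∈ B.toFinset, Dw w₀ χ * (χ : G → ℂ) g = 0 := by
    intro g hg
    by_cases h : E
    · have hgs : 2 ∣ orderOf g := by tauto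
      have ho := CfsgLib.Blocks.sum_union_mul_conj_eq_zero hM hBu (x := (1 : G))
        (by rw [orderOf_one]; decide) hgs
      have hl1 : ∀ χ ∈ B, (χ : G → ℂ) 1 =
          Dw w₀ χ * (Dw w₀ χ₀ * (χ₀ : G → ℂ) 1) := fun χ hχ => by
        rw [← hline 1 (by simp [h]) χ hχ χ₀ hχ₀, ← mul_assoc]
        rcases hsg χ hχ with h' | h' <;> rw [h'] <;> simp
      have hne : Dw w₀ χ₀ * (χ₀ : G → ℂ) 1 ≠ 0 := by
        refine mul_ne_zero ?_ (Characters.irr_one_ne_zero χ₀.2)
        rcases hsg χ₀ hχ₀ with h' | h' <;> rw [h'] <;> simp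
      have h2 : (Dw w₀ χ₀ * (χ₀ : G → ℂ) 1) *
          ∑ χ ∈ B.toFinset, Dw w₀ χ * conj ((χ : G → ℂ) g) = 0 := by
        rw [← ho, Finset.mul_sum, ← Finset.sum_filter]
        refine Finset.sum_congr (by ext; simp) fun χ hχ => ?_
        rw [hl1 χ (by simpa using hχ)]
        ring
      have h3 := congrArg conj ((mul_eq_zero.1 h2).resolve_left hne)
      rw [map_sum, map_zero] at h3
      rw [← h3]
      refine Finset.sum_congr rfl fun χ hχ => ?_
      rw [map_mul, Complex.conj_conj]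
      rcases hsg χ (Set.mem_toFinset.1 hχ) with h' | h' <;> rw [h'] <;> simp
    · have hgr : ¬ 2 ∣ orderOf g := by tauto
      have hwu : w₀ = u := if_neg h
      rw [hwu]
      rw [Finset.sum_congr rfl fun χ _ => mul_comm (Dw u χ) _]
      refine hperp u hu hu1 (fun χ => (χ : G → ℂ) g) fun z hz => ?_
      have ho := CfsgLib.Blocks.sum_union_mul_conj_eq_zero hM hBu hgr
        (y := z⁻¹) (by rwa [orderOf_inv])
      rw [← Finset.sum_filter] at ho
      refine Eq.trans (Finset.sum_congr (by ext; simp) fun χ _ => ?_) ho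
      rw [Characters.character_inv (Characters.isCharacter_of_isIrr χ.2), Complex.conj_conj]
  have hfs : ∀ F : IrrCharacter G → ℂ, ∑ᶠ χ ∈ B, F χ = ∑ χ ∈ B.toFinset, F χ := fun F =>
    finsum_mem_eq_toFinset_sum F B
  refine ⟨Dw w₀, hsg, hline, fun g hg => by rw [hfs]; exact horth g hg, fun g hg => ?_⟩
  have hside : E ∨ 2 ∣ orderOf g := by rcases hg with hg | hg <;> tauto
  obtain ⟨m, φ, w, hw, hloc, hval⟩ := hdec g hside
  have hside' : ∀ i, w i ≠ 1 ∨ E := fun i => by
    rcases hside with h | h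
    · exact Or.inr h
    · exact Or.inl fun h' => (hw i).2.1 h' h
  refine ⟨m, φ, fun i => Dw (w i), hloc,
    fun i χ hχ => (hspec (w i) (hw i).1 (hside' i) χ hχ).1, hval, fun hL i => ?_⟩
  rw [hfs]
  refine hperp (w i) (hw i).1 (fun h => ?_) _ fun z hz => horth z ?_
  · have := (hw i).2.1 h
    tauto
  · have := hg.resolve_left hL
    tauto

end CfsgLib.InertialQuotient
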