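import Cfsg.Agent.InertialQuotient.NilpotentRank
import Cfsg.Agent.BlocksCharsC.SubsectionMajorTwo
import Cfsg.Agent.BlockPairs.Contributions

/-!
# Blocks with a Klein four defect group

`card_eq_four`: a 2-block of defect two with a subsection at an involution, of rank one and the same
defect, has four characters (the contributions are odd integers).  The remaining theorems count the
subsections of a block with a Klein four defect group.
-/

set_option autoImplicit false
set_option linter.unusedSectionVars false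
set_option linter.style.haveILetI false
set_option maxHeartbeats 800000

namespace CfsgLib.InertialQuotient

open Cfsg CfsgLib.BlockPairs CfsgLib.BlocksCharsC
open CfsgLib.Blocks (Res omegaBar idemBar resCtr overSet isBlockUnion_of_isPBlock localRing red)
open scoped ComplexConjugate

universe u

variable {G : Type u} [Group G] [Fintype G] {M : Ideal AlgInt} [M.IsPrime]

/-- Defect two and a subsection of rank one at an involution with the same defect: four
characters. -/
theorem card_eq_four (hM : Cfsg.IsPModular 2 M) {x : G} (hx : orderOf x = 2)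
    [Fintype (Subgroup.centralizer ({x} : Set G))] {B : Set (IrrCharacter G)}
    (hB : Cfsg.IsPBlock M B) (hBd : Cfsg.blockDefect 2 B = 2)
    {b : Set (IrrCharacter (Subgroup.centralizer ({x} : Set G)))}
    (hind : Cfsg.IsInducedBlock M (Subgroup.centralizer ({x} : Set G)) b B)
    (hbd : Cfsg.blockDefect 2 b = 2) (hl : Cfsg.blockRank 2 b = 1) : Nat.card B = 4 := by
  classical
  haveI : Fact (Nat.Prime 2) := ⟨Nat.prime_two⟩
  have hxk : ∃ k, orderOf x = 2 ^ k := ⟨1, by rw [hx, pow_one]⟩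
  have hb := hind.1
  have hA := isBlockUnion_of_isPBlock hb
  have hht : ∀ χ ∈ B, Cfsg.blockHeight 2 B (χ : G → ℂ) = 0 := fun χ hχ => by
    by_contra h
    have := CfsgLib.Contributions.height_add_two_le hM hB hχ h
    omega
  have hint : ∀ χ ψ : IrrCharacter G, ∃ z : ℤ, subContrib 2 x b (χ : G → ℂ) ψ = z := fun χ ψ => by
    have hroot : ∀ ξ : IrrCharacter (Subgroup.centralizer ({x} : Set G)),
        secRoot x ξ ∈ (Int.castRingHom ℂ).range := fun ξ => by
      have h := secRoot_pow (p := 2) (k := 1) (by rw [hx, pow_one]) ξ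
      rw [pow_one] at h
      rcases sq_eq_one_iff.1 h with h' | h' <;> rw [h']
      · exact one_mem _
      · exact neg_mem (one_mem _)
    obtain ⟨n, m, z, -, -, -, -, he⟩ := subContrib_expand hM (b := b) χ ψ
    have : subContrib 2 x b (χ : G → ℂ) ψ ∈ (Int.castRingHom ℂ).range := by
      rw [he]
      refine Subring.sum_mem _ fun ξ _ => Subring.sum_mem _ fun η _ => ?_
      obtain ⟨u, hu⟩ := hroot η
      rw [← hu, eq_intCast, map_intCast]
      exact mul_mem (mul_mem (mul_mem (natCast_mem _ _) (hroot ξ))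
        (mul_mem (natCast_mem _ _) (intCast_mem _ _))) (intCast_mem _ _)
    obtain ⟨u, hu⟩ := this
    exact ⟨u, by rw [← hu, eq_intCast]⟩
  choose s hs using hint
  have hsymm : ∀ χ ψ, s χ ψ = s ψ χ := fun χ ψ => by
    apply Int.cast_injective (α := ℂ)
    rw [← hs, ← hs, ← subContrib_conj (χ : G → ℂ) (ψ : G → ℂ), hs, map_intCast]
  have hsum : ∀ χ, ∑ ψ, s χ ψ * s χ ψ = 4 * s χ χ := fun χ => by
    apply Int.cast_injective (α := ℂ)
    have h := sum_secInner_mul hM hA hxk χ χ
    push_cast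
    have e : ∀ ψ, (s χ ψ : ℂ) * s χ ψ =
        4 * (4 * (secInner 2 x b (χ : G → ℂ) ψ * secInner 2 x b (ψ : G → ℂ) χ)) := fun ψ => by
      conv_lhs => arg 2; rw [hsymm]
      rw [← hs, ← hs, subContrib, subContrib, hbd]
      push_cast
      ring
    rw [Finset.sum_congr rfl fun ψ _ => e ψ, ← Finset.mul_sum, ← Finset.mul_sum, h, ← hs, subContrib,
      hbd]
    push_cast
    ring
  have htr : ∑ χ, s χ χ = 4 := by
    apply Int.cast_injective (α := ℂ)
    push_cast
    rw [Finset.sum_congr rfl fun χ _ => (hs χ χ).symm]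
    simp only [subContrib]
    rw [← Finset.mul_sum, sum_secInner_self hM hA hxk, hl, hbd]
    norm_num
  have hzero : ∀ χ ψ, χ ∉ B → s χ ψ = 0 := fun χ ψ hχ => by
    have hsub : b ⊆ overSet M _ B (isBlockUnion_of_isPBlock hB) := by
      intro ξ hξ
      obtain ⟨φ, hφ⟩ := CfsgLib.Blocks.isPBlock_nonempty hB
      show omegaBar M ξ (resCtr _ (idemBar M B (isBlockUnion_of_isPBlock hB))) ≠ 0
      rw [(CfsgLib.Blocks.isInducedBlock_iff _ hb hB hξ hφ).1 hind (idemBar M B _),
        CfsgLib.Blocks.omegaBar_idemBar, if_pos hφ]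
      exact one_ne_zero
    apply Int.cast_injective (α := ℂ)
    rw [← hs, subContrib, secInner, BlockPairing.regInner, Int.cast_zero]
    refine mul_eq_zero_of_right _ (mul_eq_zero_of_right _ (Finset.sum_eq_zero fun y _ => ?_))
    split_ifs with hy
    · rfl
    · rw [secVal_eq_zero hM hA hxk hB hsub hχ hy, zero_mul]
  have hodd : ∀ χ ∈ B, ∀ ψ ∈ B, Odd (s χ ψ) := fun χ hχ ψ hψ => by
    rw [← Int.not_even_iff_odd, even_iff_two_dvd, show (2 : ℤ) = ((2 : ℕ) : ℤ) from rfl,
      ← CfsgLib.MajorSubsection.memLocalIdeal_intCast_iff hM, ← hs]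
    exact subContrib_unit hM hxk hB hind hχ hψ (hht χ hχ) (hht ψ hψ)
  have hsq : ∀ χ ∈ B, ∀ ψ ∈ B, ((s χ ψ * s χ ψ : ℤ) : ZMod 8) = 1 := fun χ hχ ψ hψ => by
    obtain ⟨q, hq⟩ := hodd χ hχ ψ hψ
    rw [hq]
    push_cast
    exact (by decide : ∀ t : ZMod 8, (2 * t + 1) * (2 * t + 1) = 1) _
  have hS : ∀ χ, ∑ ψ ∈ B.toFinset, s χ ψ * s χ ψ = 4 * s χ χ := fun χ => by
    rw [← hsum χ]
    refine Finset.sum_subset (Finset.subset_univ _) fun ψ _ hψ => ?_
    rw [hsymm, hzero ψ χ fun h => hψ (Set.mem_toFinset.2 h), zero_mul]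
  have hT : ∑ χ ∈ B.toFinset, s χ χ = 4 := by
    rw [← htr]
    exact Finset.sum_subset (Finset.subset_univ _) fun χ _ hχ =>
      hzero χ χ fun h => hχ (Set.mem_toFinset.2 h)
  have hcard : Nat.card B = B.toFinset.card := by
    rw [Set.toFinset_card, Nat.card_eq_fintype_card]
  have hpos : ∀ χ ∈ B.toFinset, (1 : ℤ) ≤ s χ χ := fun χ hχ => by
    have h : 0 ≤ ∑ ψ ∈ B.toFinset, s χ ψ * s χ ψ :=
      Finset.sum_nonneg fun ψ _ => mul_self_nonneg _
    obtain ⟨q, hq⟩ := hodd χ (Set.mem_toFinset.1 hχ) χ (Set.mem_toFinset.1 hχ)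
    rw [hS χ] at h
    omega
  obtain ⟨χ₀, hχ₀⟩ := CfsgLib.Blocks.isPBlock_nonempty hB
  have hmod : ((B.toFinset.card : ℕ) : ZMod 8) = 4 := by
    have h := congrArg (fun z : ℤ => (z : ZMod 8)) (hS χ₀)
    obtain ⟨q, hq⟩ := hodd χ₀ hχ₀ χ₀ hχ₀
    simp only [Int.cast_sum] at h
    rw [Finset.sum_congr rfl fun ψ hψ => hsq χ₀ hχ₀ ψ (Set.mem_toFinset.1 hψ), Finset.sum_const,
      nsmul_eq_mul, mul_one] at h
    rw [h, hq]
    push_cast
    exact (by decide : ∀ t : ZMod 8, 4 * (2 * t + 1) = 4) _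
  have hle := Finset.card_nsmul_le_sum _ _ _ hpos
  rw [hT, nsmul_eq_mul, mul_one] at hle
  have hlt : B.toFinset.card ≤ 4 := by exact_mod_cast hle
  rw [hcard]
  interval_cases B.toFinset.card <;> revert hmod <;> decide

section Subsections

variable {p : ℕ} [hp : Fact p.Prime] [CharP (Res M) p] [IsAlgClosed (Res M)]

/-- An inducing block of the centralizer of a p-element gives a pair of the block. -/
theorem blockHas_of_induced_singleton (hM : Cfsg.IsPModular p M) {x : G}
    [Fintype (Subgroup.centralizer ({x} : Set G))] (hx : ∃ k, orderOf x = p ^ k)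
    {B : Set (IrrCharacter G)} {b : Set (IrrCharacter (Subgroup.centralizer ({x} : Set G)))}
    (h : Cfsg.IsInducedBlock M (Subgroup.centralizer ({x} : Set G)) b B) :
    BlockHas p ⊤ (gblk M B) (Subgroup.zpowers x)
      (sblk M (Subgroup.centralizer ({x} : Set G)) b) := by
  obtain ⟨k, hk⟩ := hx
  have hQ : IsPGroup p (Subgroup.zpowers x) :=
    IsPGroup.of_card (n := k) (by rw [Nat.card_zpowers, hk])
  have hK := centralizer_zpowers x
  have hab : Subgroup.zpowers x ≤
      Subgroup.centralizer ((Subgroup.zpowers x : Subgroup G) : Set G) := by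
    rw [hK, Subgroup.zpowers_le]; exact Subgroup.mem_centralizer_singleton_iff.2 rfl
  have he : IsBlock (Subgroup.centralizer ((Subgroup.zpowers x : Subgroup G) : Set G))
      (sblk M (Subgroup.centralizer ({x} : Set G)) b) := by rw [hK]; exact isBlock_sblk h.1
  obtain ⟨ξ, hξ⟩ := CfsgLib.Blocks.isPBlock_nonempty h.1
  obtain ⟨χ, hχ⟩ := CfsgLib.Blocks.isPBlock_nonempty h.2.1
  refine ⟨⟨le_top, hQ, by rw [cent_top]; exact he⟩,
    br_mul_eq_self_of_omega hQ le_top le_top (isBlock_gblk h.2.1) he ?_⟩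
  have e2 := omega_br_eq_resCtr hM hQ hab hK.symm h.1 hξ
    (idemBar M B (isBlockUnion_of_isPBlock h.2.1))
  rw [← gblk_eq_emb h.2.1, (CfsgLib.Blocks.isInducedBlock_iff _ h.1 h.2.1 hξ hχ).1 h,
    CfsgLib.Blocks.omegaBar_idemBar, if_pos hχ] at e2
  rwa [hK]

variable {B : Set (IrrCharacter G)} {P : Subgroup G} {e : GA (Res M) G}

/-- The subsection of an element of the defect group below the maximal pair. -/
theorem exists_subsection_below (hM : Cfsg.IsPModular p M) (hB : Cfsg.IsPBlock M B)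
    (hmax : IsMaxPair p ⊤ (gblk M B) P e) {u : G} (hu : u ∈ P)
    [Fintype (Subgroup.centralizer ({u} : Set G))] :
    ∃ b : Set (IrrCharacter (Subgroup.centralizer ({u} : Set G))),
      Cfsg.IsInducedBlock M (Subgroup.centralizer ({u} : Set G)) b B ∧
      Le p ⊤ (Subgroup.zpowers u) (sblk M (Subgroup.centralizer ({u} : Set G)) b) P e := by
  have hb := isBlock_gblk (M := M) hB
  obtain ⟨f, hf, hle⟩ := exists_below hmax.1.1 (Subgroup.zpowers_le.2 hu)
  have hh := (blockHas_iff_of_le hb hle hf).2 hmax.1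
  obtain ⟨c, hc, hceq⟩ := exists_eq_sblk (M := M) (e := f)
    (K := Subgroup.centralizer ({u} : Set G)) (centralizer_zpowers u ▸ isBlock_centralizer hh.1)
  rw [hceq] at hh hle
  refine ⟨c, ?_, hle⟩
  obtain ⟨ξ, hξ⟩ := CfsgLib.Blocks.isPBlock_nonempty hc
  have hux : ∃ k, orderOf u = p ^ k := by
    obtain ⟨j, hj⟩ := hmax.1.1.2.1 ⟨u, hu⟩
    exact ((Nat.dvd_prime_pow hp.out).1
      (orderOf_dvd_of_pow_eq_one (congrArg Subtype.val hj : u ^ p ^ j = 1))).imp fun k hk => hk.2
  have hind := CfsgLib.Blocks.isInducedBlock_of_mem_overSet hM hux hB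
    (mem_overSet_of_blockHas hM hB hc hh hξ)
  rwa [← CfsgLib.Blocks.eq_blockOf_of_mem hc hξ] at hind

end Subsections

section Klein

variable [CharP (Res M) 2] [IsAlgClosed (Res M)] {B : Set (IrrCharacter G)} {P : Subgroup G}
  {e : GA (Res M) G}

theorem klein_sq [IsKleinFour P] {y : G} (hy : y ∈ P) : y * y = 1 :=
  congrArg Subtype.val (IsKleinFour.mul_self (⟨y, hy⟩ : P))

theorem klein_cases [IsKleinFour P] {u v : G} (hu : u ∈ P) (hv : v ∈ P) (hu1 : u ≠ 1) (hv1 : v ≠ 1)
    (huv : u ≠ v) {y : G} (hy : y ∈ P) : y = u * v ∨ y = u ∨ y = v ∨ y = 1 := by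
  classical
  haveI := Fintype.ofFinite P
  have h := IsKleinFour.eq_finset_univ (x := (⟨u, hu⟩ : P)) (y := ⟨v, hv⟩)
    (fun h => hu1 (congrArg Subtype.val h)) (fun h => hv1 (congrArg Subtype.val h))
    (fun h => huv (congrArg Subtype.val h))
  have hmem : (⟨y, hy⟩ : P) ∈ (Finset.univ : Finset P) := Finset.mem_univ _
  rw [← h] at hmem
  simpa [Subtype.ext_iff] using hmem

theorem exists_ne_klein [IsKleinFour P] (u : G) : ∃ v ∈ P, v ≠ 1 ∧ v ≠ u := by
  classical
  haveI := Fintype.ofFinite P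
  by_contra h
  push Not at h
  have h4 : Fintype.card P = 4 := by rw [← Nat.card_eq_fintype_card]; exact IsKleinFour.card_four
  have : (Finset.univ : Finset P).image Subtype.val ⊆ {1, u} := fun y hy => by
    obtain ⟨z, -, rfl⟩ := Finset.mem_image.1 hy
    by_cases h1 : (z : G) = 1
    · simp [h1]
    · simp [h z z.2 h1]
  have h2 := Finset.card_le_card this
  rw [Finset.card_image_of_injective _ Subtype.val_injective, Finset.card_univ, h4] at h2
  have := Finset.card_le_two (a := (1 : G)) (b := u)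
  omega

theorem klein_le_centralizer [IsKleinFour P] : P ≤ Subgroup.centralizer (P : Set G) :=
  le_centralizer_of_comm fun x hx y hy => by
    have h := klein_sq (mul_mem hx hy)
    have hx' : x⁻¹ = x := inv_eq_of_mul_eq_one_right (klein_sq hx)
    have hy' : y⁻¹ = y := inv_eq_of_mul_eq_one_right (klein_sq hy)
    calc x * y = (x * y)⁻¹ := (inv_eq_of_mul_eq_one_right h).symm
      _ = y * x := by rw [mul_inv_rev, hx', hy']

theorem orderOf_klein [IsKleinFour P] {y : G} (hy : y ∈ P) (hy1 : y ≠ 1) : orderOf y = 2 :=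
  haveI : Fact (Nat.Prime 2) := ⟨Nat.prime_two⟩
  orderOf_eq_prime (by rw [sq]; exact klein_sq hy) hy1

/-- The stabilizer of the maximal pair acts freely on the involutions. -/
theorem klein_free [IsKleinFour P] (hB : Cfsg.IsPBlock M B)
    (hmax : IsMaxPair 2 ⊤ (gblk M B) P e) {g : G} (hg : g ∈ stab ⊤ P e) {u : G} (hu : u ∈ P)
    (hu1 : u ≠ 1) (hfix : g * u * g⁻¹ = u) : g ∈ Subgroup.centralizer (P : Set G) := by
  haveI : Fact (Nat.Prime 2) := ⟨Nat.prime_two⟩
  obtain ⟨v, hv, hv1, hvu⟩ := exists_ne_klein (P := P) u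
  refine mem_centralizer_of_pow (isBlock_gblk (M := M) hB) hmax klein_le_centralizer hg 1 ?_
  have hvim : g * v * g⁻¹ ∈ P := (Subgroup.mem_normalizer_iff.1 hg.1.2 v).1 hv
  have hgg : g * (g * v * g⁻¹) * g⁻¹ = v := by
    rcases klein_cases hu hv hu1 hv1 (Ne.symm hvu) hvim with h | h | h | h
    · rw [h, show g * (u * v) * g⁻¹ = (g * u * g⁻¹) * (g * v * g⁻¹) by group, hfix, h, ← mul_assoc,
        klein_sq hu, one_mul]
    · exact absurd (mul_left_cancel (mul_right_cancel (h.trans hfix.symm))) hvu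
    · rw [h, h]
    · exact absurd (conj_eq_one_iff.1 h) hv1
  have hu2 : g ^ 2 * u * (g ^ 2)⁻¹ = u := by
    rw [sq, show g * g * u * (g * g)⁻¹ = g * (g * u * g⁻¹) * g⁻¹ by group, hfix, hfix]
  have hv2 : g ^ 2 * v * (g ^ 2)⁻¹ = v := by
    rw [sq, show g * g * v * (g * g)⁻¹ = g * (g * v * g⁻¹) * g⁻¹ by group, hgg]
  rw [pow_one]
  refine Subgroup.mem_centralizer_iff.2 fun y hy => (mul_inv_eq_iff_eq_mul.1 ?_).symm
  rcases klein_cases hu hv hu1 hv1 (Ne.symm hvu) hy with h | h | h | h <;> subst h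
  · rw [show g ^ 2 * (u * v) * (g ^ 2)⁻¹ =
      (g ^ 2 * u * (g ^ 2)⁻¹) * (g ^ 2 * v * (g ^ 2)⁻¹) by group, hu2, hv2]
  · exact hu2
  · exact hv2
  · group

/-- The subsection at an involution below the maximal pair has rank one and full defect. -/
theorem rank_one_below [IsKleinFour P] (hM : Cfsg.IsPModular 2 M) (hB : Cfsg.IsPBlock M B)
    (hmax : IsMaxPair 2 ⊤ (gblk M B) P e) {u : G} (hu : u ∈ P) (hu1 : u ≠ 1)
    [Fintype (Subgroup.centralizer ({u} : Set G))]
    {b : Set (IrrCharacter (Subgroup.centralizer ({u} : Set G)))} (hb : Cfsg.IsPBlock M b)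
    (hle : Le 2 ⊤ (Subgroup.zpowers u) (sblk M (Subgroup.centralizer ({u} : Set G)) b) P e) :
    Cfsg.blockDefect 2 b = 2 ∧ Cfsg.blockRank 2 b = 1 := by
  haveI : Fact (Nat.Prime 2) := ⟨Nat.prime_two⟩
  have hab : P ≤ Subgroup.centralizer (P : Set G) := klein_le_centralizer
  have hgb := isBlock_gblk (M := M) hB
  have hC := centralizer_zpowers u
  have hPK : P ≤ Subgroup.centralizer ({u} : Set G) :=
    hC ▸ le_centralizer_of_le hab hle.subgroup_le
  have hnilp : Nilp 2 (Subgroup.centralizer ({u} : Set G))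
      (sblk M (Subgroup.centralizer ({u} : Set G)) b) := by
    rw [show Nilp 2 (Subgroup.centralizer ({u} : Set G)) = Nilp 2
      (Subgroup.centralizer ((Subgroup.zpowers u : Subgroup G) : Set G)) by rw [hC]]
    refine (nilp_centralizer_iff hgb hmax hab hle).2 ?_
    rintro g ⟨hg, hgu⟩
    refine klein_free hB hmax hg hu hu1 (mul_inv_eq_iff_eq_mul.2 ?_)
    exact (Subgroup.mem_centralizer_iff.1 hgu u (Subgroup.mem_zpowers u)).symm
  have hmaxC := defect_centralizer hgb hmax hab hle
  rw [hC] at hmaxC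
  have hbD : Cfsg.IsDefectGroup 2 M b (P.subgroupOf (Subgroup.centralizer ({u} : Set G))) :=
    (isDefectGroup_subgroupOf_iff hb hPK).2 (hmaxC.isDefectGrp (isBlock_sblk hb)).1
  have hn := (isNilpotentBlock_gblk_iff hb).1 ((isNilpotentBlock_sblk_iff hb).2 hnilp)
  have hP4 : Nat.card (P.subgroupOf (Subgroup.centralizer ({u} : Set G))) = 4 := by
    rw [Nat.card_congr (Subgroup.subgroupOfEquivOfLe hPK).toEquiv, IsKleinFour.card_four]
  have hdef : Cfsg.blockDefect 2 b = 2 := by
    have h := CfsgLib.Blocks.card_defectGroup hM hb hbD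
    rw [hP4] at h
    exact (Nat.pow_right_injective le_rfl (show 2 ^ 2 = 2 ^ Cfsg.blockDefect 2 b from h)).symm
  refine ⟨hdef, ?_⟩
  set P' := P.subgroupOf (Subgroup.centralizer ({u} : Set G)) with hP'
  have hab' : P' ≤ Subgroup.centralizer (P' : Set _) := fun a ha =>
    Subgroup.mem_centralizer_iff.2 fun c hc =>
      Subtype.ext (Subgroup.mem_centralizer_iff.1 (hab ha) c hc)
  obtain ⟨v, hv, hv1, hvu⟩ := exists_ne_klein (P := P) u
  let v' : Subgroup.centralizer ({u} : Set G) := ⟨v, hPK hv⟩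
  have hCL : Subgroup.centralizer (P' : Set _) =
      Subgroup.centralizer ({v'} : Set (Subgroup.centralizer ({u} : Set G))) := by
    refine le_antisymm (Subgroup.centralizer_le (Set.singleton_subset_iff.2 hv)) fun c hc => ?_
    refine Subgroup.mem_centralizer_iff.2 fun y hy => Subtype.ext ?_
    have h1 : Commute (c : G) v := congrArg Subtype.val (Subgroup.mem_centralizer_singleton_iff.1 hc)
    have h2 : Commute (c : G) u := Subgroup.mem_centralizer_singleton_iff.1 c.2
    rcases klein_cases hu hv hu1 hv1 (Ne.symm hvu) hy with h | h | h | h <;>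
      · show (y : G) * c = c * y
        rw [show (y : G) = _ from h]
        first
        | exact (h2.mul_right h1).eq.symm
        | exact h2.eq.symm
        | exact h1.eq.symm
        | rw [one_mul, mul_one]
  haveI := Fintype.ofFinite
    (Subgroup.centralizer ({v'} : Set (Subgroup.centralizer ({u} : Set G))))
  obtain ⟨b', hb'D, hb'B⟩ := CfsgLib.BlocksLocal.exists_sub_block
    (L := Subgroup.centralizer ({v'} : Set (Subgroup.centralizer ({u} : Set G)))) hM hb hbD
    (hab'.trans hCL.le) hCL.le (hCL.symm.le.trans (Subgroup.centralizer_le_normalizer _))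
  have hcen : P'.subgroupOf (Subgroup.centralizer ({v'} : Set _)) ≤ Subgroup.center _ :=
    fun z hz => Subgroup.mem_center_iff.2 fun g =>
      Subtype.ext (Subgroup.mem_centralizer_iff.1 (hCL.symm.le g.2) z hz).symm
  have hb'd : Cfsg.blockDefect 2 b' = 2 := by
    have h := CfsgLib.Blocks.card_defectGroup hM hb'B.1 hb'D
    rw [Nat.card_congr (Subgroup.subgroupOfEquivOfLe (hab'.trans hCL.le)).toEquiv, hP4] at h
    exact (Nat.pow_right_injective le_rfl (show 2 ^ 2 = 2 ^ Cfsg.blockDefect 2 b' from h)).symm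
  have hk : Nat.card b = 4 := card_eq_four hM
    (by rw [← Subgroup.orderOf_coe]; exact orderOf_klein hv hv1) hb hdef hb'B hb'd
    (Cfsg.Agent.S4669.result 2 M hM b' hb'B.1 _ hb'D hcen)
  have h1 := card_ge_of_nilp hM hb hbD hab' hn
  have h3 := BlockPairing.one_le_blockRank (p := 2) (CfsgLib.Blocks.isPBlock_nonempty hb)
  rw [hP4, hk] at h1
  omega

/-- With a Klein four defect group there are four characters. -/
theorem card_klein [IsKleinFour P] (hM : Cfsg.IsPModular 2 M) (hB : Cfsg.IsPBlock M B)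
    (hPD : Cfsg.IsDefectGroup 2 M B P) (hmax : IsMaxPair 2 ⊤ (gblk M B) P e) :
    Nat.card B = 4 := by
  haveI : Fact (Nat.Prime 2) := ⟨Nat.prime_two⟩
  obtain ⟨u, hu, hu1, -⟩ := exists_ne_klein (P := P) 1
  haveI := Fintype.ofFinite (Subgroup.centralizer ({u} : Set G))
  obtain ⟨b, hind, hle⟩ := exists_subsection_below hM hB hmax hu
  obtain ⟨hd, hl⟩ := rank_one_below hM hB hmax hu hu1 hind.1 hle
  refine card_eq_four hM (orderOf_klein hu hu1) hB ?_ hind hd hl
  have h := CfsgLib.Blocks.card_defectGroup hM hB hPD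
  rw [IsKleinFour.card_four] at h
  exact (Nat.pow_right_injective le_rfl (show 2 ^ 2 = 2 ^ Cfsg.blockDefect 2 B from h)).symm

open Classical in
/-- When the stabilizer is transitive on the involutions, there is one nontrivial subsection. -/
theorem card_eq_rank_add_one [IsKleinFour P] (hM : Cfsg.IsPModular 2 M) (hB : Cfsg.IsPBlock M B)
    (hmax : IsMaxPair 2 ⊤ (gblk M B) P e) {u : G} (hu : u ∈ P) (hu1 : u ≠ 1)
    (htr : ∀ y ∈ P, y ≠ 1 → ∃ t ∈ stab ⊤ P e, t * y * t⁻¹ = u) :
    Nat.card B = Cfsg.blockRank 2 B + 1 := by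
  haveI : Fact (Nat.Prime 2) := ⟨Nat.prime_two⟩
  have hgb := isBlock_gblk (M := M) hB
  let rep : ConjClasses G → G := fun C => if C = ConjClasses.mk 1 then 1
    else if C = ConjClasses.mk u then u else Quotient.out C
  have hC : ∀ C, ConjClasses.mk (rep C) = C := fun C => by
    simp only [rep]
    split_ifs with h h'
    · exact h.symm
    · exact h'.symm
    · exact Quotient.out_eq C
  have hinv : ∀ {a c : G}, IsConj a c → orderOf a = orderOf c := fun h => by
    obtain ⟨g, rfl⟩ := isConj_iff.1 h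
    exact (MulEquiv.orderOf_eq (MulAut.conj g) _).symm
  haveI := Fintype.ofFinite (ConjClasses G)
  set X := (Finset.univ.image rep).filter fun x => ∃ k : ℕ, orderOf x = 2 ^ k with hXdef
  have hrep : ∀ g : G, (∃ k : ℕ, orderOf g = 2 ^ k) → ∃! x, x ∈ X ∧ IsConj g x := fun g hg => by
    have hgc : IsConj g (rep (ConjClasses.mk g)) :=
      ConjClasses.mk_eq_mk_iff_isConj.1 (hC _).symm
    refine ⟨rep (ConjClasses.mk g), ⟨Finset.mem_filter.2 ⟨Finset.mem_image_of_mem _
      (Finset.mem_univ _), by rwa [← hinv hgc]⟩, hgc⟩, fun x hx => ?_⟩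
    obtain ⟨C, -, rfl⟩ := Finset.mem_image.1 (Finset.mem_filter.1 hx.1).1
    rw [ConjClasses.mk_eq_mk_iff_isConj.2 hx.2, hC]
  have h1X : (1 : G) ∈ X := Finset.mem_filter.2
    ⟨Finset.mem_image.2 ⟨ConjClasses.mk 1, Finset.mem_univ _, by simp [rep]⟩, 0, by simp⟩
  have huX : u ∈ X.erase 1 := by
    refine Finset.mem_erase.2 ⟨hu1, Finset.mem_filter.2 ⟨Finset.mem_image.2
      ⟨ConjClasses.mk u, Finset.mem_univ _, ?_⟩, 1, by rw [orderOf_klein hu hu1, pow_one]⟩⟩
    simp only [rep]
    rw [if_neg]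
    · simp
    exact fun h => hu1 (isConj_one_left.1 (ConjClasses.mk_eq_mk_iff_isConj.1 h))
  have hX : ∀ x ∈ X, ∃ k : ℕ, orderOf x = 2 ^ k := fun x hx => (Finset.mem_filter.1 hx).2
  have hcount := BlockPairing.card_block_eq_sum hM hB X hX hrep
  rw [← Finset.add_sum_erase X _ h1X, sum_blockRank_one hM hB] at hcount
  -- an inducing block comes from the pair below
  have hback : ∀ x ∈ X.erase 1, ∀ c : Set (IrrCharacter (Subgroup.centralizer ({x} : Set G))),
      Cfsg.IsInducedBlock M (Subgroup.centralizer ({x} : Set G)) c B →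
      ∃ z : G, z * x * z⁻¹ = u ∧ Le 2 ⊤ (Subgroup.zpowers u)
        (conjA (Res M) z (sblk M (Subgroup.centralizer ({x} : Set G)) c)) P e := by
    intro x hx c hc
    haveI := Fintype.ofFinite (Subgroup.centralizer ({x} : Set G))
    obtain ⟨hx1, hxX⟩ := Finset.mem_erase.1 hx
    obtain ⟨z, -, hz⟩ := exists_conj_le hgb hmax
      (blockHas_of_induced_singleton hM (hX x hxX) hc)
    have hzx : z * x * z⁻¹ ∈ P :=
      hz.subgroup_le (Subgroup.mem_map_of_mem _ (Subgroup.mem_zpowers x))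
    obtain ⟨t, ht, htu⟩ := htr _ hzx fun h => hx1 (conj_eq_one_iff.1 h)
    have h2 := hz.conjA (x := t) trivial
    rw [cj_eq_self ht.1.2, ht.2, conjA_conjA] at h2
    refine ⟨t * z, by rw [← htu]; group, ?_⟩
    convert h2 using 1
    rw [cj, cj, MonoidHom.map_zpowers, MonoidHom.map_zpowers]
    congr 1
    exact htu.symm
  haveI := Fintype.ofFinite (Subgroup.centralizer ({u} : Set G))
  obtain ⟨b, hind, hle⟩ := exists_subsection_below hM hB hmax hu
  obtain ⟨-, hl⟩ := rank_one_below hM hB hmax hu hu1 hind.1 hle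
  rw [Finset.sum_eq_single u] at hcount
  · rw [hcount, Nat.add_right_inj]
    have hset : {c : Set (IrrCharacter (Subgroup.centralizer ({u} : Set G))) |
        Cfsg.IsInducedBlock M (Subgroup.centralizer ({u} : Set G)) c B} = {b} := by
      refine Set.eq_singleton_iff_unique_mem.2 ⟨hind, fun c hc => ?_⟩
      obtain ⟨z, hzu, hzle⟩ := hback u huX c hc
      have hzC : z ∈ Subgroup.centralizer ({u} : Set G) :=
        Subgroup.mem_centralizer_singleton_iff.2 (mul_inv_eq_iff_eq_mul.1 hzu)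
      have h := le_unique hle hzle
      rw [(isBlock_sblk (M := M) hc.1).fixed z hzC] at h
      exact (sblk_inj hind.1 hc.1 h).symm
    rw [hset, finsum_mem_singleton, hl]
  · intro x hx hxu
    refine finsum_mem_eq_zero_of_forall_eq_zero fun c hc => ?_
    obtain ⟨z, hzu, -⟩ := hback x hx c hc
    obtain ⟨x₀, -, huniq⟩ := hrep x (hX x (Finset.mem_erase.1 hx).2)
    exact absurd ((huniq x ⟨(Finset.mem_erase.1 hx).2, IsConj.refl x⟩).trans
      (huniq u ⟨(Finset.mem_erase.1 huX).2, isConj_iff.2 ⟨z, hzu⟩⟩).symm) hxu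
  · exact fun h => absurd huX h

/-- A trivial inertial quotient makes the block nilpotent. -/
theorem nilp_of_stab_le (hB : Cfsg.IsPBlock M B) (hab : P ≤ Subgroup.centralizer (P : Set G))
    (hmax : IsMaxPair 2 ⊤ (gblk M B) P e)
    (h : stab ⊤ P e ≤ Subgroup.centralizer (P : Set G)) : Nilp 2 ⊤ (gblk M B) := by
  haveI : Fact (Nat.Prime 2) := ⟨Nat.prime_two⟩
  have hgb := isBlock_gblk (M := M) hB
  have htop : Subgroup.centralizer (((⊥ : Subgroup G)) : Set G) = ⊤ :=
    Subgroup.centralizer_eq_top_iff_subset.2 fun x hx => by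
      rw [SetLike.mem_coe, Subgroup.mem_bot] at hx; subst hx; exact one_mem _
  have hle := le_of_blockHas hmax.1.1 hab bot_le (htop.symm ▸ hgb) (htop.symm ▸ hmax.1)
  have := (nilp_centralizer_iff hgb hmax hab hle).2 fun g hg => h hg.1
  rwa [htop] at this

end Klein

end CfsgLib.InertialQuotient
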