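import Cfsg.Agent.BlockPairs.PairBridge
import Cfsg.Agent.Blocks.BrauerMap
import Cfsg.Agent.Blocks.Sections

/-!
# Induced blocks and Brauer pairs

A block of the centralizer of an abelian p-subgroup `P` induces a block exactly where the Brauer
map at `P` puts it: `blockHas_of_induced`, `blockHas_of_inducedIn` (inside a subgroup containing
the centralizer), and conversely `mem_overSet_of_blockHas` for the centralizer of a p-element.
-/

set_option autoImplicit false
set_option linter.unusedSectionVars false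
set_option linter.style.haveILetI false

namespace CfsgLib.InertialQuotient

open Cfsg CfsgLib.BlockPairs
open CfsgLib.Blocks (Ctr Res localRing red idemBar omegaBar omegaO redCtr resCtr brRes overSet)

universe u

variable {G : Type u} [Group G] [Fintype G] {M : Ideal AlgInt} [M.IsPrime]
variable {p : ℕ} [hp : Fact p.Prime] [CharP (Res M) p] [IsAlgClosed (Res M)]
variable {P : Subgroup G}

/-- The Brauer image of a central element of the group, seen in the centralizer. -/
theorem omega_br_eq_resCtr (hM : Cfsg.IsPModular p M) (hP : IsPGroup p P)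
    (hab : P ≤ Subgroup.centralizer (P : Set G)) {K : Subgroup G} [Fintype K]
    (hK : K = Subgroup.centralizer (P : Set G)) {e : Set (IrrCharacter K)}
    (he : Cfsg.IsPBlock M e) {ξ : IrrCharacter K} (hξ : ξ ∈ e) (a : Ctr (Res M) G) :
    omega K (sblk M K e) (br P (emb (MonoidHom.id G) (a : GA (Res M) G))) =
      omegaBar M ξ (resCtr K a) := by
  subst hK
  have hKN : (Subgroup.centralizer (P : Set G)) ≤ Subgroup.normalizer (P : Set G) := Subgroup.centralizer_le_normalizer _
  have hbr : br P (emb (MonoidHom.id G) (a : GA (Res M) G)) =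
      emb (Subgroup.centralizer (P : Set G)).subtype (brRes P (Subgroup.centralizer (P : Set G)) hKN a : GA (Res M) (Subgroup.centralizer (P : Set G))) := by
    refine ga_ext fun g => ?_
    by_cases hg : g ∈ (Subgroup.centralizer (P : Set G))
    · rw [br_coeff_mem P _ hg]
      have h1 := emb_coeff_apply (k := Res M) (φ := MonoidHom.id G) Function.injective_id
        (a : GA (Res M) G) g
      have h2 := emb_coeff_apply (k := Res M) (φ := (Subgroup.centralizer (P : Set G)).subtype) (Subgroup.centralizer (P : Set G)).subtype_injective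
        (brRes P (Subgroup.centralizer (P : Set G)) hKN a : GA (Res M) (Subgroup.centralizer (P : Set G))) ⟨g, hg⟩
      rw [CfsgLib.Blocks.coeff_brRes_of_mem hKN _ (h := ⟨g, hg⟩) hg] at h2
      exact h1.trans h2.symm
    · rw [br_coeff_not_mem P _ hg, emb_coeff_not_mem _ _ (by rwa [(Subgroup.centralizer (P : Set G)).range_subtype])]
  have h := omega_blkE (φ := (Subgroup.centralizer (P : Set G)).subtype) (Subgroup.centralizer (P : Set G)).subtype_injective he hξ (brRes P (Subgroup.centralizer (P : Set G)) hKN a)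
  rw [(Subgroup.centralizer (P : Set G)).range_subtype] at h
  rw [hbr, CfsgLib.Blocks.omegaBar_resCtr_eq_brRes hM hP hab hKN]
  exact h

theorem gblk_eq_emb {B : Set (IrrCharacter G)} (hB : Cfsg.IsPBlock M B) :
    gblk M B = emb (MonoidHom.id G)
      (idemBar M B (CfsgLib.Blocks.isBlockUnion_of_isPBlock hB) : GA (Res M) G) :=
  blkE_eq _ _

theorem br_mem_sub_centralizer {H : Subgroup G} (hCH : Subgroup.centralizer (P : Set G) ≤ H)
    {z : GA (Res M) G} (hz : z ∈ sub H H) :
    br P z ∈ sub (Subgroup.centralizer (P : Set G)) (Subgroup.centralizer (P : Set G)) :=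
  ⟨(isSupp_br_of hz.1).mono inf_le_right,
    isFixed_br (Subgroup.centralizer_le_normalizer _) (hz.2.mono hCH)⟩

theorem br_mul_eq_self_of_omega {H : Subgroup G} (hP : IsPGroup p P) (hPH : P ≤ H)
    (hCH : Subgroup.centralizer (P : Set G) ≤ H) {b e : GA (Res M) G} (hb : IsBlock H b)
    (he : IsBlock (Subgroup.centralizer (P : Set G)) e)
    (h : omega (Subgroup.centralizer (P : Set G)) e (br P b) = 1) : br P b * e = e := by
  have hm := br_mem_sub_centralizer hCH hb.mem
  refine (he.dichotomy hm (br_idem hP (hb.fixed.mono hPH) hb.idem)).resolve_left fun h0 => ?_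
  rw [omega_unique he hm (c := 0) (by simp [h0])] at h
  exact zero_ne_one h

/-- A block of the centralizer of an abelian p-subgroup inducing `B` gives a pair of `B`. -/
theorem blockHas_of_induced (hM : Cfsg.IsPModular p M) (hP : IsPGroup p P)
    (hab : P ≤ Subgroup.centralizer (P : Set G))
    {c : Set (IrrCharacter (Subgroup.centralizer (P : Set G)))} {B : Set (IrrCharacter G)}
    (hc : Cfsg.IsInducedBlock M (Subgroup.centralizer (P : Set G)) c B) :
    BlockHas p ⊤ (gblk M B) P (sblk M (Subgroup.centralizer (P : Set G)) c) := by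
  haveI := Fintype.ofFinite (Subgroup.centralizer (P : Set G))
  obtain ⟨ξ, hξ⟩ := CfsgLib.Blocks.isPBlock_nonempty hc.1
  obtain ⟨χ, hχ⟩ := CfsgLib.Blocks.isPBlock_nonempty hc.2.1
  refine ⟨⟨le_top, hP, by rw [cent_top]; exact isBlock_sblk hc.1⟩,
    br_mul_eq_self_of_omega hP le_top le_top (isBlock_gblk hc.2.1) (isBlock_sblk hc.1) ?_⟩
  rw [gblk_eq_emb hc.2.1, omega_br_eq_resCtr hM hP hab rfl hc.1 hξ,
    (CfsgLib.Blocks.isInducedBlock_iff _ hc.1 hc.2.1 hξ hχ).1 hc,
    CfsgLib.Blocks.omegaBar_idemBar, if_pos hχ]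

theorem centralizer_zpowers (x : G) :
    Subgroup.centralizer ((Subgroup.zpowers x : Subgroup G) : Set G) =
      Subgroup.centralizer ({x} : Set G) := by
  rw [Subgroup.zpowers_eq_closure, Subgroup.centralizer_closure]

/-- The blocks of `C(x)` below `B` in the sense of pairs lie over `B`. -/
theorem mem_overSet_of_blockHas (hM : Cfsg.IsPModular p M) {x : G}
    [Fintype (Subgroup.centralizer ({x} : Set G))] {B : Set (IrrCharacter G)}
    (hB : Cfsg.IsPBlock M B) {b : Set (IrrCharacter (Subgroup.centralizer ({x} : Set G)))}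
    (hb : Cfsg.IsPBlock M b)
    (h : BlockHas p ⊤ (gblk M B) (Subgroup.zpowers x)
      (sblk M (Subgroup.centralizer ({x} : Set G)) b))
    {ξ : IrrCharacter (Subgroup.centralizer ({x} : Set G))} (hξ : ξ ∈ b) :
    ξ ∈ overSet M (Subgroup.centralizer ({x} : Set G)) B
      (CfsgLib.Blocks.isBlockUnion_of_isPBlock hB) := by
  have hQ := h.1.2.1
  have hK := (centralizer_zpowers x).symm
  have hab : Subgroup.zpowers x ≤ Subgroup.centralizer ((Subgroup.zpowers x : Subgroup G) : Set G) :=
    by rw [centralizer_zpowers, Subgroup.zpowers_le]; exact Subgroup.mem_centralizer_singleton_iff.2 rfl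
  show omegaBar M ξ _ ≠ 0
  rw [← omega_br_eq_resCtr hM hQ hab hK hb hξ, ← gblk_eq_emb hB]
  have hm := br_mem_sub_centralizer (P := Subgroup.zpowers x) le_top (isBlock_gblk (M := M) hB).mem
  rw [← hK] at hm
  rw [omega_unique (isBlock_sblk hb) hm (c := 1) (by simp [h.2])]
  exact one_ne_zero

/-- The central character induced inside a subgroup, through the Brauer map. -/
theorem omega_br_classSum {H : Subgroup G} [Fintype H]
    {c : Set (IrrCharacter (Subgroup.centralizer (P : Set G)))} {f : Set (IrrCharacter H)}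
    (hc : Cfsg.IsPBlock M c) (hf : Cfsg.IsPBlock M f)
    {ξ : IrrCharacter (Subgroup.centralizer (P : Set G))} (hξ : ξ ∈ c) {χ : IrrCharacter H}
    (hχ : χ ∈ f)
    (hCH : Subgroup.centralizer (P : Set G) ≤ H) {g : G} (hg : g ∈ H) :
    Cfsg.MemLocalIdeal M (Cfsg.inducedCentralCharIn H (Subgroup.centralizer (P : Set G))
        (ξ : Subgroup.centralizer (P : Set G) → ℂ) g -
        Cfsg.centralChar (χ : H → ℂ) (⟨g, hg⟩ : H)) ↔
    omega (Subgroup.centralizer (P : Set G)) (sblk M (Subgroup.centralizer (P : Set G)) c)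
        (br P (BlockPairs.classSum (Res M) H g)) =
      omega H (sblk M H f) (BlockPairs.classSum (Res M) H g) := by
  classical
  haveI := Fintype.ofFinite (Subgroup.centralizer (P : Set G))
  set s : Set (Subgroup.centralizer (P : Set G)) := {k : (Subgroup.centralizer (P : Set G)) | ∃ x : H, (x : G) * (k : G) * (x : G)⁻¹ = g} with hs
  have hinv : ∀ k c : (Subgroup.centralizer (P : Set G)), c * k * c⁻¹ ∈ s ↔ k ∈ s := by
    intro k c
    constructor
    · rintro ⟨x, hx⟩
      exact ⟨x * ⟨c, hCH c.2⟩, by rw [← hx]; push_cast; group⟩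
    · rintro ⟨x, hx⟩
      exact ⟨x * ⟨c, hCH c.2⟩⁻¹, by rw [← hx]; push_cast; group⟩
  set zO : Ctr (localRing M) (Subgroup.centralizer (P : Set G)) := ⟨CfsgLib.Blocks.ofFun (Set.indicator s fun _ => 1),
    CfsgLib.Blocks.mem_ctr_iff.2 fun k c => by
      simp only [CfsgLib.Blocks.coeff_ofFun, Set.indicator_apply, hinv]⟩ with hzO
  have hred : br P (BlockPairs.classSum (Res M) H g) =
      emb (Subgroup.centralizer (P : Set G)).subtype (redCtr M zO : GA (Res M) (Subgroup.centralizer (P : Set G))) := by
    refine ga_ext fun y => ?_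
    by_cases hy : y ∈ (Subgroup.centralizer (P : Set G))
    · rw [br_coeff_mem P _ hy, classSum_coeff]
      have := emb_coeff_apply (k := Res M) (φ := (Subgroup.centralizer (P : Set G)).subtype) (Subgroup.centralizer (P : Set G)).subtype_injective
        (redCtr M zO : GA (Res M) (Subgroup.centralizer (P : Set G))) ⟨y, hy⟩
      simp only [Subgroup.coe_subtype] at this
      rw [this]
      simp only [redCtr, hzO, CfsgLib.Blocks.coeff_mapCtr, CfsgLib.Blocks.coeff_ofFun,
        Set.indicator_apply, apply_ite (red M), map_one, map_zero]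
      convert if_congr ⟨?_, ?_⟩ rfl rfl using 2
      · rintro ⟨a, ha, rfl⟩
        exact ⟨⟨a, ha⟩⁻¹, by simp [mul_assoc]⟩
      · rintro ⟨x, hx⟩
        exact ⟨(x : G)⁻¹, H.inv_mem x.2, by rw [← hx]; simp [mul_assoc]⟩
    · rw [br_coeff_not_mem P _ hy, emb_coeff_not_mem _ _ (by rwa [(Subgroup.centralizer (P : Set G)).range_subtype])]
  have hl := omega_blkE (φ := (Subgroup.centralizer (P : Set G)).subtype) (Subgroup.centralizer (P : Set G)).subtype_injective hc hξ (redCtr M zO)
  rw [(Subgroup.centralizer (P : Set G)).range_subtype] at hl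
  have hr := omega_blkE (φ := H.subtype) H.subtype_injective hf hχ
    (CfsgLib.Blocks.classSum (Res M) (ConjClasses.mk (⟨g, hg⟩ : H)))
  rw [H.range_subtype, classSum_emb H.subtype_injective, H.range_subtype] at hr
  rw [hred]
  refine Iff.trans ?_ (iff_of_eq (congrArg₂ Eq hl hr)).symm
  rw [CfsgLib.Blocks.omegaBar_redCtr, CfsgLib.Blocks.omegaBar_classSum,
    CfsgLib.Blocks.red_eq_red_iff]
  have e : ((omegaO M ξ zO : localRing M) : ℂ) =
      Cfsg.inducedCentralCharIn H (Subgroup.centralizer (P : Set G)) (ξ : (Subgroup.centralizer (P : Set G)) → ℂ) g := by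
    rw [CfsgLib.Blocks.coe_omegaO, CfsgLib.Blocks.omega_apply, Cfsg.inducedCentralCharIn,
      finsum_mem_def, finsum_eq_sum_of_fintype, Finset.sum_div]
    refine Finset.sum_congr rfl fun k _ => ?_
    simp only [CfsgLib.Blocks.toC, hzO, CfsgLib.Blocks.coeff_mapCtr, CfsgLib.Blocks.coeff_ofFun,
      Set.indicator_apply]
    split_ifs <;> simp_all
  rw [e]

/-- Block induction inside a subgroup gives a pair of that subgroup. -/
theorem blockHas_of_inducedIn (hP : IsPGroup p P) {H : Subgroup G}
    {c : Set (IrrCharacter (Subgroup.centralizer (P : Set G)))} {f : Set (IrrCharacter H)}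
    (hc : Cfsg.IsInducedBlockIn M H (Subgroup.centralizer (P : Set G)) c f)
    (hCH : Subgroup.centralizer (P : Set G) ≤ H) (hPH : P ≤ H) :
    BlockHas p H (sblk M H f) P (sblk M (Subgroup.centralizer (P : Set G)) c) := by
  classical
  haveI := Fintype.ofFinite H
  obtain ⟨ξ, hξ⟩ := CfsgLib.Blocks.isPBlock_nonempty hc.1
  obtain ⟨χ, hχ⟩ := CfsgLib.Blocks.isPBlock_nonempty hc.2.1
  have hcb := isBlock_sblk (M := M) hc.1
  have hfb := isBlock_sblk (M := M) hc.2.1
  have key : ∀ z ∈ sub H H, omega (Subgroup.centralizer (P : Set G)) (sblk M (Subgroup.centralizer (P : Set G)) c) (br P z) = omega H (sblk M H f) z := by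
    intro z hz
    refine (centre_induction (motive := fun w => w ∈ sub H H ∧
      omega (Subgroup.centralizer (P : Set G)) (sblk M (Subgroup.centralizer (P : Set G)) c) (br P w) = omega H (sblk M H f) w)
      ⟨zero_mem _, by rw [br_zero, omega_zero hcb, omega_zero hfb]⟩
      (fun x y hx hy h1 h2 => ⟨add_mem hx hy, by
        rw [br_add, omega_add hcb (br_mem_sub_centralizer hCH hx) (br_mem_sub_centralizer hCH hy),
          omega_add hfb hx hy, h1.2, h2.2]⟩) hz fun g hgH _ => ?_).2
    refine ⟨Subalgebra.smul_mem _ (classSum_mem_sub hgH) _, ?_⟩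
    rw [br_smul, omega_smul hcb (br_mem_sub_centralizer hCH (classSum_mem_sub hgH)),
      omega_smul hfb (classSum_mem_sub hgH), (omega_br_classSum hc.1 hc.2.1 hξ hχ hCH hgH).1 (hc.2.2 ξ hξ χ hχ ⟨g, hgH⟩)]
  refine ⟨⟨hPH, hP, ?_⟩, br_mul_eq_self_of_omega hP hPH hCH hfb hcb ?_⟩
  · rw [cent, inf_eq_right.2 hCH]
    exact hcb
  · rw [key _ hfb.mem, omega_self hfb]

/-- A pair of a subgroup containing the centralizer gives block induction inside it. -/
theorem isInducedBlockIn_of_blockHas (hP : IsPGroup p P) {H : Subgroup G}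
    {c : Set (IrrCharacter (Subgroup.centralizer (P : Set G)))} {f : Set (IrrCharacter H)}
    (hc : Cfsg.IsPBlock M c) (hf : Cfsg.IsPBlock M f)
    (hCH : Subgroup.centralizer (P : Set G) ≤ H) (hPH : P ≤ H)
    (h : BlockHas p H (sblk M H f) P (sblk M (Subgroup.centralizer (P : Set G)) c)) :
    Cfsg.IsInducedBlockIn M H (Subgroup.centralizer (P : Set G)) c f := by
  haveI := Fintype.ofFinite H
  refine ⟨hc, hf, fun ξ hξ χ hχ g => (omega_br_classSum hc hf hξ hχ hCH g.2).2 ?_⟩
  set z := BlockPairs.classSum (Res M) H (g : G)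
  have hz : z ∈ sub H H := classSum_mem_sub g.2
  have hcb := isBlock_sblk (M := M) hc
  have hfb := isBlock_sblk (M := M) hf
  obtain ⟨n, hn⟩ := isNilpotent_omega hfb hz
  refine omega_unique hcb (br_mem_sub_centralizer hCH hz) ⟨n + 1, ?_⟩
  set d := z * sblk M H f - omega H (sblk M H f) z • sblk M H f with hd
  have hdm : d ∈ sub H H :=
    sub_mem (mul_mem hz hfb.mem) (Subalgebra.smul_mem _ hfb.mem _)
  have hpow : ∀ m : ℕ, br P d ^ m = br P (d ^ m) := by
    intro m
    induction m with
    | zero => rw [pow_zero, pow_zero, br_one]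
    | succ m ih => rw [pow_succ, pow_succ, ih, br_mul hP ((pow_mem hdm m).2.mono hPH) (hdm.2.mono hPH)]
  have heq : br P z * sblk M (Subgroup.centralizer (P : Set G)) c -
      omega H (sblk M H f) z • sblk M (Subgroup.centralizer (P : Set G)) c =
      br P d * sblk M (Subgroup.centralizer (P : Set G)) c := by
    rw [hd, br_sub, br_mul hP (hz.2.mono hPH) (hfb.fixed.mono hPH), br_smul, sub_mul,
      smul_mul_assoc, mul_assoc, h.2]
  have hcomm : Commute (br P d) (sblk M (Subgroup.centralizer (P : Set G)) c) :=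
    sub_comm (br_mem_sub_centralizer hCH hdm) hcb.mem
  rw [heq, hcomm.mul_pow, hpow, pow_succ d, hn, zero_mul, br_zero, zero_mul]

end CfsgLib.InertialQuotient
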