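import Cfsg.Agent.InertialQuotient.RankTransport
import Cfsg.Agent.InertialQuotient.Induced
import Cfsg.Agent.Star.Contr
import Cfsg.Agent.Star.Linear

/-!
# The subsections of a block with abelian defect group

Sums over the subsections are sums over the defect group `P` weighted by the orbits of the
stabilizer `T` (`sum_pairs`).  So `k(B) = ∑ l_w / |w ^ T|` (`card_eq_sum`) and, for a nontrivial
linear character invariant under `T`, `∑ l(w) l_w / |w ^ T| = 0` (`sum_lext_eq_zero`).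
-/

set_option autoImplicit false
set_option linter.unusedSectionVars false
set_option linter.style.haveILetI false
set_option maxHeartbeats 800000

namespace CfsgLib.InertialQuotient

open Cfsg CfsgLib.BlockPairs
open CfsgLib.Blocks (Res isBlockUnion_of_isPBlock)
open CfsgLib.Star
open scoped ComplexConjugate

universe u

variable {G : Type u} [Group G]

/-- The orbit of `w` under conjugation by `T`. -/
def orb (T : Subgroup G) (w : G) : Set G := {v | ∃ t ∈ T, t * w * t⁻¹ = v}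

/-- The length of the orbit. -/
noncomputable def ocard (T : Subgroup G) (w : G) : ℕ := Nat.card (orb T w)

theorem mem_orb_self (T : Subgroup G) (w : G) : w ∈ orb T w := ⟨1, T.one_mem, by simp⟩

theorem orb_eq_of_mem {T : Subgroup G} {w v : G} (h : v ∈ orb T w) : orb T v = orb T w := by
  obtain ⟨t, ht, rfl⟩ := h
  ext y
  constructor
  · rintro ⟨s, hs, rfl⟩
    exact ⟨s * t, T.mul_mem hs ht, by group⟩
  · rintro ⟨s, hs, rfl⟩
    exact ⟨s * t⁻¹, T.mul_mem hs (T.inv_mem ht), by group⟩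

theorem ocard_ne_zero [Finite G] (T : Subgroup G) (w : G) : ocard T w ≠ 0 :=
  haveI : Nonempty (orb T w) := ⟨⟨w, mem_orb_self T w⟩⟩
  Nat.card_pos.ne'

theorem ocard_of_fixed {T : Subgroup G} {w : G} (h : ∀ t ∈ T, t * w * t⁻¹ = w) :
    ocard T w = 1 := by
  have hs : orb T w = {w} := Set.eq_singleton_iff_unique_mem.2
    ⟨mem_orb_self T w, by rintro v ⟨t, ht, rfl⟩; exact h t ht⟩
  rw [ocard, hs, Nat.card_unique]

theorem ocard_fixed_mul {T : Subgroup G} {u : G} (h : ∀ t ∈ T, t * u * t⁻¹ = u) (w : G) :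
    ocard T (u * w) = ocard T w := by
  have hs : orb T (u * w) = (fun v => u * v) '' orb T w := by
    ext v
    constructor
    · rintro ⟨t, ht, rfl⟩
      exact ⟨t * w * t⁻¹, ⟨t, ht, rfl⟩, by
        show u * (t * w * t⁻¹) = t * (u * w) * t⁻¹
        rw [show t * (u * w) * t⁻¹ = (t * u * t⁻¹) * (t * w * t⁻¹) by group, h t ht]⟩
    · rintro ⟨y, ⟨t, ht, rfl⟩, rfl⟩
      exact ⟨t, ht, by
        show t * (u * w) * t⁻¹ = u * (t * w * t⁻¹)
        rw [show t * (u * w) * t⁻¹ = (t * u * t⁻¹) * (t * w * t⁻¹) by group, h t ht]⟩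
  rw [ocard, ocard, hs, Nat.card_image_of_injective (mul_right_injective u)]

variable [Fintype G] {M : Ideal AlgInt} [M.IsPrime] {p : ℕ} [hp : Fact p.Prime]
  [CharP (Res M) p] [IsAlgClosed (Res M)]
  {B : Set (IrrCharacter G)} {P : Subgroup G} {eP : GA (Res M) G}

variable (hB : Cfsg.IsPBlock M B) (hmax : IsMaxPair p ⊤ (gblk M B) P eP)
  (hab : P ≤ Subgroup.centralizer (P : Set G))

include hB hmax hab

/-- The stabilizer of the maximal pair controls the fusion of the pairs of elements. -/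
theorem exists_stab_of_mor {w g : G} (h : Mor p P eP (Subgroup.zpowers w) g) :
    ∃ t ∈ stab ⊤ P eP, t * w * t⁻¹ = g * w * g⁻¹ := by
  have hb := isBlock_gblk (M := M) hB
  obtain ⟨f, hle, hle'⟩ := h
  have h2 := hle'.conjA (x := g⁻¹) (Subgroup.mem_top _)
  rw [cj_inv_cj, conjA_inv] at h2
  have hmax2 := hmax.conjA hb (x := g⁻¹) (Subgroup.mem_top _)
  have hab2 : cj g⁻¹ P ≤ Subgroup.centralizer ((cj g⁻¹ P : Subgroup G) : Set G) := by
    rw [← cj_centralizer]
    exact cj_mono _ hab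
  have hQf := le_pair hmax.1.1 hle
  have hm1 := defect_centralizer hb hmax hab hle
  have hm2 := defect_centralizer hb hmax2 hab2 h2
  obtain ⟨c, hc, hcP, hce⟩ := maxPairs_conj (isBlock_centralizer hQf) hm1 hm2
  rw [cj_cj] at hcP
  rw [conjA_conjA] at hce
  have hy : c * g⁻¹ ∈ stab ⊤ P eP :=
    mem_stab.2 ⟨⟨trivial, mem_normalizer_of_cj_eq hcP⟩, hce⟩
  refine ⟨(c * g⁻¹)⁻¹, inv_mem hy, ?_⟩
  have hcw : w * c = c * w := Subgroup.mem_centralizer_iff.1 hc w (Subgroup.mem_zpowers w)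
  calc (c * g⁻¹)⁻¹ * w * (c * g⁻¹)⁻¹⁻¹ = g * c⁻¹ * (w * c) * g⁻¹ := by group
    _ = g * w * g⁻¹ := by rw [hcw]; group

theorem isInvariant_of_stab {ζ : G → ℂ}
    (h : ∀ t ∈ stab ⊤ P eP, ∀ w ∈ P, ζ (t * w * t⁻¹) = ζ w) : IsInvariant p P eP ζ := by
  intro w g hm
  obtain ⟨t, ht, htw⟩ := exists_stab_of_mor hB hmax hab hm
  rw [← htw]
  exact h t ht w (hm.source_le (Subgroup.mem_zpowers w))

open Classical in
/-- A sum over the pairs below the maximal pair as a sum over `P`. -/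
theorem sum_pairs (F : G → GA (Res M) G → ℂ)
    (hconj : ∀ g w : G, ∀ e : GA (Res M) G,
      IsBlock (cent ⊤ (Subgroup.zpowers w)) e →
        F (g * w * g⁻¹) (conjA (Res M) g e) = F w e)
    (hzero : ∀ x e, (∀ y, ¬ Le p ⊤ (cj y (Subgroup.zpowers x)) (conjA (Res M) y e) P eP) →
      F x e = 0) :
    (∑ x ∈ Finset.univ.filter (fun x : G => ∃ k, orderOf x = p ^ k),
        ∑ e ∈ blocks (Res M) (cent ⊤ (Subgroup.zpowers x)), F x e) =
      (Nat.card G : ℂ) * ∑ w : P, F (w : G) (below p P eP (Subgroup.zpowers (w : G))) /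
        ((Nat.card ↥(cent ⊤ (Subgroup.zpowers (w : G))) : ℂ) *
          (ocard (stab ⊤ P eP) (w : G) : ℂ)) := by
  set T := stab ⊤ P eP with hT
  let wgt : G → ℂ := fun w =>
    ((Nat.card ↥(cent ⊤ (Subgroup.zpowers w)) : ℂ) * (ocard T w : ℂ))⁻¹
  let S : Finset (Σ _ : G, GA (Res M) G) :=
    (Finset.univ.filter fun x : G => ∃ k, orderOf x = p ^ k).sigma
      fun x => blocks (Res M) (cent ⊤ (Subgroup.zpowers x))
  let Φ : G × P → (Σ _ : G, GA (Res M) G) := fun a =>
    ⟨a.1 * (a.2 : G) * a.1⁻¹, conjA (Res M) a.1 (below p P eP (Subgroup.zpowers (a.2 : G)))⟩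
  have hΦ : ∀ a, Φ a ∈ S := by
    rintro ⟨g, w⟩
    refine Finset.mem_sigma.2 ⟨Finset.mem_filter.2 ⟨Finset.mem_univ _, ?_⟩, ?_⟩
    · obtain ⟨k, hk⟩ := hmax.1.1.2.1 w
      obtain ⟨i, -, hi⟩ := (Nat.dvd_prime_pow hp.out).1
        (orderOf_dvd_of_pow_eq_one (x := (w : G)) (n := p ^ k) (congrArg Subtype.val hk))
      exact ⟨i, ((MulAut.conj g).orderOf_eq (w : G)).trans hi⟩
    · have h := (mem_blocks.1 (below_mem_blocks hmax w.2)).conjA g
      rw [cj_cent_top, Star.cj_zpowers] at h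
      exact mem_blocks.2 h
  have hA : ∑ a : G × P, wgt (a.2 : G) * F (Φ a).1 (Φ a).2 =
      (Nat.card G : ℂ) * ∑ w : P, F (w : G) (below p P eP (Subgroup.zpowers (w : G))) /
        ((Nat.card ↥(cent ⊤ (Subgroup.zpowers (w : G))) : ℂ) * (ocard T (w : G) : ℂ)) := by
    rw [Fintype.sum_prod_type]
    simp only [Φ]
    simp only [hconj _ _ _ (mem_blocks.1 (below_mem_blocks hmax (Subtype.prop _)))]
    rw [Finset.sum_const, Finset.card_univ, ← Nat.card_eq_fintype_card, nsmul_eq_mul]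
    refine congrArg _ (Finset.sum_congr rfl fun w _ => ?_)
    simp only [wgt]
    rw [div_eq_inv_mul]
  have hfib : ∀ σ ∈ S,
      (∑ a ∈ Finset.univ.filter (fun a => Φ a = σ), wgt (a.2 : G)) * F σ.1 σ.2 = F σ.1 σ.2 := by
    rintro ⟨x, e⟩ hσ
    by_cases hF : F x e = 0
    · rw [hF, mul_zero]
    obtain ⟨y, hy⟩ : ∃ y, Le p ⊤ (cj y (Subgroup.zpowers x)) (conjA (Res M) y e) P eP := by
      by_contra h
      exact hF (hzero x e fun y hy => h ⟨y, hy⟩)
    rw [Star.cj_zpowers] at hy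
    set w₀ := y * x * y⁻¹ with hw₀
    have hw₀P : w₀ ∈ P := hy.subgroup_le (Subgroup.mem_zpowers _)
    have he₀ : below p P eP (Subgroup.zpowers w₀) = conjA (Res M) y e := below_eq hmax hy
    set C₀ := cent ⊤ (Subgroup.zpowers w₀) with hC₀
    have hC₀mem : ∀ c, c ∈ C₀ ↔ c * w₀ = w₀ * c := fun c => by
      rw [hC₀, cent_zpowers, Subgroup.mem_centralizer_singleton_iff]
    have horbP : ∀ v ∈ orb T w₀, v ∈ P := by
      rintro v ⟨t, ht, rfl⟩
      exact (Subgroup.mem_normalizer_iff.1 (stab_le_normalizer ht) w₀).1 hw₀P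
    have hch : ∀ v : orb T w₀, ∃ t ∈ T, t * w₀ * t⁻¹ = (v : G) := fun v => v.2
    choose t ht htv using hch
    have hbel : ∀ v : orb T w₀, below p P eP (Subgroup.zpowers (v : G)) =
        conjA (Res M) (t v) (below p P eP (Subgroup.zpowers w₀)) := by
      intro v
      refine below_eq hmax ?_
      have h := (le_below hmax hw₀P).conjA (x := t v) (Subgroup.mem_top _)
      rw [Star.cj_zpowers, htv v, cj_eq_self (stab_le_normalizer (ht v)),
        (mem_stab.1 (ht v)).2] at h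
      exact h
    let ψ : orb T w₀ × C₀ → G × P := fun q =>
      (y⁻¹ * (q.2 : G) * (t q.1)⁻¹, ⟨(q.1 : G), horbP _ q.1.2⟩)
    have hψ : ∀ q, Φ (ψ q) = ⟨x, e⟩ := by
      rintro ⟨v, c⟩
      have hcu : (c : G) * w₀ * (c : G)⁻¹ = w₀ := by
        rw [(hC₀mem c).1 c.2, mul_inv_cancel_right]
      simp only [Φ, ψ]
      refine Sigma.ext ?_ (heq_of_eq ?_)
      · calc y⁻¹ * (c : G) * (t v)⁻¹ * (v : G) * (y⁻¹ * (c : G) * (t v)⁻¹)⁻¹
            = y⁻¹ * (c : G) * ((t v)⁻¹ * (v : G) * t v) * (c : G)⁻¹ * y := by group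
          _ = y⁻¹ * ((c : G) * w₀ * (c : G)⁻¹) * y := by rw [← htv v]; group
          _ = x := by rw [hcu, hw₀]; group
      · rw [hbel v, conjA_conjA, inv_mul_cancel_right, ← conjA_conjA,
          (mem_blocks.1 (below_mem_blocks hmax hw₀P)).fixed c c.2, he₀, conjA_inv]
    have hψinj : Function.Injective ψ := by
      rintro ⟨v, c⟩ ⟨v', c'⟩ h
      obtain ⟨h1, h2⟩ := Prod.mk.inj h
      obtain rfl : v = v' := Subtype.ext (congrArg Subtype.val h2 :)
      exact Prod.ext rfl (Subtype.ext (mul_left_cancel (mul_right_cancel h1)))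
    have hψsurj : ∀ b, Φ b = (⟨x, e⟩ : Σ _ : G, GA (Res M) G) → ∃ q, ψ q = b := by
      rintro ⟨g, w⟩ hb
      have hb' := Sigma.mk.inj_iff.1 hb
      have hgw : g * (w : G) * g⁻¹ = x := hb'.1
      have hge : conjA (Res M) g (below p P eP (Subgroup.zpowers (w : G))) = e := eq_of_heq hb'.2
      have hmor : Mor p P eP (Subgroup.zpowers (w : G)) (y * g) := by
        refine (mor_iff (le_below hmax w.2)).2 ?_
        rw [← conjA_conjA, hge, Star.cj_zpowers,
          show y * g * (w : G) * (y * g)⁻¹ = y * (g * (w : G) * g⁻¹) * y⁻¹ by group, hgw]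
        exact hy
      obtain ⟨s, hs, hsw⟩ := exists_stab_of_mor hB hmax hab hmor
      have hsw' : s * (w : G) * s⁻¹ = w₀ := by
        rw [hsw, show y * g * (w : G) * (y * g)⁻¹ = y * (g * (w : G) * g⁻¹) * y⁻¹ by group, hgw]
      have hv : (w : G) ∈ orb T w₀ := ⟨s⁻¹, T.inv_mem hs, by rw [← hsw']; group⟩
      refine ⟨⟨⟨(w : G), hv⟩, ⟨y * g * t ⟨(w : G), hv⟩, (hC₀mem _).2 ?_⟩⟩,
        Prod.ext ?_ (Subtype.ext rfl)⟩
      · have h3 := htv ⟨(w : G), hv⟩
        set τ := t ⟨(w : G), hv⟩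
        calc y * g * τ * w₀ = y * g * (τ * w₀ * τ⁻¹) * τ := by group
          _ = y * g * (w : G) * τ := by rw [h3]
          _ = y * (g * (w : G) * g⁻¹) * y⁻¹ * (y * g * τ) := by group
          _ = w₀ * (y * g * τ) := by rw [hgw]
      · simp only [ψ]; group
    have hwgt : ∀ a ∈ Finset.univ.filter (fun a => Φ a = (⟨x, e⟩ : Σ _ : G, GA (Res M) G)),
        wgt (a.2 : G) = wgt w₀ := by
      intro a ha
      obtain ⟨⟨v, c⟩, rfl⟩ := hψsurj a (Finset.mem_filter.1 ha).2
      simp only [wgt, ψ, ocard, orb_eq_of_mem v.2]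
      rw [← htv v, ← Star.cj_zpowers, ← cj_cent_top, card_cj]
    have hcard : (Finset.univ.filter (fun a => Φ a = (⟨x, e⟩ : Σ _ : G, GA (Res M) G))).card =
        ocard T w₀ * Nat.card C₀ := by
      rw [ocard, ← Nat.card_prod, ← Finset.card_image_of_injective Finset.univ hψinj |>.trans
        (Finset.card_univ.trans Nat.card_eq_fintype_card.symm)]
      congr 1
      ext a
      constructor
      · intro ha
        obtain ⟨q, rfl⟩ := hψsurj a (Finset.mem_filter.1 ha).2
        exact Finset.mem_image_of_mem _ (Finset.mem_univ q)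
      · intro ha
        obtain ⟨q, -, rfl⟩ := Finset.mem_image.1 ha
        exact Finset.mem_filter.2 ⟨Finset.mem_univ _, hψ q⟩
    rw [Finset.sum_congr rfl hwgt, Finset.sum_const, hcard, nsmul_eq_mul]
    have h1 : (Nat.card C₀ : ℂ) ≠ 0 := Nat.cast_ne_zero.2 Nat.card_pos.ne'
    have h2 : (ocard T w₀ : ℂ) ≠ 0 := Nat.cast_ne_zero.2 (ocard_ne_zero T w₀)
    simp only [wgt]
    rw [← hC₀]
    push_cast
    field_simp
  rw [← hA, ← Finset.sum_fiberwise_of_maps_to (g := Φ) (fun a _ => hΦ a), Finset.sum_sigma']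
  refine Finset.sum_congr rfl fun σ hσ => ?_
  rw [← hfib σ hσ, Finset.sum_mul]
  exact Finset.sum_congr rfl fun a ha => by rw [(Finset.mem_filter.1 ha).2]

variable (hM : Cfsg.IsPModular p M)

include hM

open Classical in
/-- The inner product of a star with the character. -/
theorem classInner_star_sum {ζ : G → ℂ} (hζ : IsInvariant p P eP ζ) {χ : IrrCharacter G}
    (hχ : χ ∈ B) :
    Cfsg.classInner (star p P eP ζ (χ : G → ℂ)) (χ : G → ℂ) =
      ∑ w : P, ζ (w : G) *
        (cval p P eP (χ : G → ℂ) (χ : G → ℂ) (w : G) / (Nat.card P : ℂ)) /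
          (ocard (stab ⊤ P eP) (w : G) : ℂ) := by
  have hf := Characters.isClassFunction_of_isIrr χ.2
  let F : G → GA (Res M) G → ℂ := fun x e =>
    zt p P eP ζ x e * conj (zt p P eP (1 : G → ℂ) x e) *
      nsum p (χ : G → ℂ) (χ : G → ℂ) (cent ⊤ (Subgroup.zpowers x)) x e
  have hL : Cfsg.classInner (star p P eP ζ (χ : G → ℂ)) (χ : G → ℂ) =
      (Nat.card G : ℂ)⁻¹ * ∑ x ∈ Finset.univ.filter (fun x : G => ∃ k, orderOf x = p ^ k),
        ∑ e ∈ blocks (Res M) (cent ⊤ (Subgroup.zpowers x)), F x e := by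
    conv_lhs => arg 2; rw [← star_of_eq_one hM hB hmax (ζ := (1 : G → ℂ)) (fun _ _ => rfl)
      isInvariant_one hχ]
    simp only [Cfsg.classInner]
    congr 1
    rw [Finset.sum_filter]
    refine (sum_eq_sum_sections' (p := p) _).trans (Finset.sum_congr rfl fun x _ => ?_)
    split_ifs with hx
    · rw [sum_section_star hM hx hf hf, Star.cent_zpowers]
      exact Finset.sum_congr rfl fun e _ => by simp only [F]; rw [Star.cent_zpowers, nsum_eq_sum]
    · rfl
  rw [hL, sum_pairs hB hmax hab F ?_ ?_, ← mul_assoc,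
    inv_mul_cancel₀ (Nat.cast_ne_zero.2 Nat.card_pos.ne'), one_mul]
  · refine Finset.sum_congr rfl fun w _ => ?_
    have hle := le_below hmax w.2
    have hinf : P ⊓ cent ⊤ (Subgroup.zpowers (w : G)) = P := inf_eq_left.2 (by
      rw [cent_top]
      exact le_centralizer_of_le hab (Subgroup.zpowers_le.2 w.2))
    simp only [F]
    rw [zt_eq hζ (x := 1) (by rwa [conjA_one_left, cj_one]),
      zt_eq isInvariant_one (x := 1) (by rwa [conjA_one_left, cj_one]), cval, wt, hinf]
    have hP : (Nat.card P : ℂ) ≠ 0 := Nat.cast_ne_zero.2 Nat.card_pos.ne'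
    simp only [one_mul, inv_one, mul_one, Pi.one_apply, map_one]
    field_simp
  · intro g w e he
    simp only [F]
    rw [zt_conj hζ, zt_conj isInvariant_one, nsum_conj hf hf g w he]
  · intro x e h
    simp only [F]
    rw [zt_eq_zero h, zero_mul, zero_mul]

open Classical in
/-- The trace of a star on the block. -/
theorem sum_classInner_star {ζ : G → ℂ} (hζ : IsInvariant p P eP ζ) :
    ∑ χ ∈ B.toFinset, Cfsg.classInner (star p P eP ζ (χ : G → ℂ)) (χ : G → ℂ) =
      ∑ w : P, ζ (w : G) * (rk p P eP (Subgroup.zpowers (w : G)) : ℂ) /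
        (ocard (stab ⊤ P eP) (w : G) : ℂ) := by
  rw [Finset.sum_congr rfl fun χ hχ =>
    classInner_star_sum hB hmax hab hM hζ (Set.mem_toFinset.1 hχ), Finset.sum_comm]
  refine Finset.sum_congr rfl fun w _ => ?_
  rw [← Finset.sum_div, ← Finset.mul_sum, ← Finset.sum_div]
  congr 2
  haveI := Fintype.ofFinite ↥(Subgroup.centralizer ({(w : G)} : Set G))
  obtain ⟨hk, f, hf, hind, hle⟩ := exists_sub hM hB hmax w.2
  have hC : Subgroup.centralizer ((Subgroup.zpowers (w : G) : Subgroup G) : Set G) =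
      Subgroup.centralizer ({(w : G)} : Set G) := centralizer_zpowers (w : G)
  have hmC := maxPair_below hB hmax hab (Subgroup.zpowers_le.2 w.2)
  rw [below_eq hmax hle, hC] at hmC
  have hPC : P ≤ Subgroup.centralizer ({(w : G)} : Set G) :=
    hC ▸ le_centralizer_of_le hab (Subgroup.zpowers_le.2 w.2)
  have hcard : Nat.card ↥(P ⊓ cent ⊤ (Subgroup.zpowers (w : G))) =
      p ^ Cfsg.blockDefect p f := by
    rw [Star.cent_zpowers, inf_eq_left.2 hPC, ← CfsgLib.Blocks.card_defectGroup hM hf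
      ((isDefectGroup_subgroupOf_iff hf hPC).2 (hmC.isDefectGrp (isBlock_sblk hf)).1)]
    exact (Nat.card_congr (Subgroup.subgroupOfEquivOfLe hPC).toEquiv).symm
  have hP : (Nat.card P : ℂ) = ((p ^ Cfsg.blockDefect p f : ℕ) : ℂ) := by
    rw [← hcard, Star.cent_zpowers, inf_eq_left.2 hPC]
  have hrk : rk p P eP (Subgroup.zpowers (w : G)) = Cfsg.blockRank p f := by
    rw [rk, below_eq hmax hle, hC, rkE_sblk hf]
  rw [hrk, ← BlocksCharsC.sum_secInner_self hM (isBlockUnion_of_isPBlock hf) hk, hP,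
    Finset.sum_congr rfl fun (χ : IrrCharacter G) _ =>
      cval_eq_subContrib hM hB hmax hf hle hcard (Characters.isClassFunction_of_isIrr χ.2)
        (Characters.isClassFunction_of_isIrr χ.2)]
  simp only [BlocksCharsC.subContrib]
  rw [← Finset.mul_sum, mul_div_cancel_left₀ _ (Nat.cast_ne_zero.2 (pow_pos hp.out.pos _).ne')]
  refine Finset.sum_subset (Finset.subset_univ _) fun χ _ hχ => ?_
  have hsub : f ⊆ CfsgLib.Blocks.overSet M _ B (isBlockUnion_of_isPBlock hB) := by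
    intro ξ hξ
    obtain ⟨φ, hφ⟩ := CfsgLib.Blocks.isPBlock_nonempty hB
    show CfsgLib.Blocks.omegaBar M ξ (CfsgLib.Blocks.resCtr _
      (CfsgLib.Blocks.idemBar M B (isBlockUnion_of_isPBlock hB))) ≠ 0
    rw [(CfsgLib.Blocks.isInducedBlock_iff _ hf hB hξ hφ).1 hind (CfsgLib.Blocks.idemBar M B _),
      CfsgLib.Blocks.omegaBar_idemBar, if_pos hφ]
    exact one_ne_zero
  rw [BlocksCharsC.secInner, BlockPairing.regInner]
  refine mul_eq_zero_of_right _ (Finset.sum_eq_zero fun y _ => ?_)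
  split_ifs with hy
  · rfl
  · rw [BlocksCharsC.secVal_eq_zero hM (isBlockUnion_of_isPBlock hf) hk hB hsub
      (fun h => hχ (Set.mem_toFinset.2 h)) hy, zero_mul]

open Classical in
/-- The number of characters. -/
theorem card_eq_sum : (Nat.card B : ℂ) =
    ∑ w : P, (rk p P eP (Subgroup.zpowers (w : G)) : ℂ) /
      (ocard (stab ⊤ P eP) (w : G) : ℂ) := by
  have h := sum_classInner_star hB hmax hab hM (ζ := (1 : G → ℂ)) isInvariant_one
  simp only [Pi.one_apply, one_mul] at h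
  rw [← h, Finset.sum_congr rfl fun χ hχ => by
      rw [star_of_eq_one hM hB hmax (ζ := (1 : G → ℂ)) (fun _ _ => rfl) isInvariant_one
        (Set.mem_toFinset.1 hχ), Characters.classInner_irr, if_pos rfl],
    Finset.sum_const, nsmul_eq_mul, mul_one, Nat.card_eq_fintype_card, Set.toFinset_card]

open Classical in
/-- A nontrivial invariant linear character is orthogonal to the ranks. -/
theorem sum_lext_eq_zero {l : P →* ℂˣ}
    (hl : ∀ t ∈ stab ⊤ P eP, ∀ w ∈ P, lext l (t * w * t⁻¹) = lext l w) (hne : l ≠ 1) :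
    ∑ w : P, (l w : ℂ) * (rk p P eP (Subgroup.zpowers (w : G)) : ℂ) /
      (ocard (stab ⊤ P eP) (w : G) : ℂ) = 0 := by
  have hζ := isInvariant_of_stab hB hmax hab hl
  have h := sum_classInner_star hB hmax hab hM hζ
  simp only [lext_coe] at h
  rw [← h]
  refine Finset.sum_eq_zero fun χ hχ => ?_
  have hχ' := Set.mem_toFinset.1 hχ
  obtain ⟨hirr, -⟩ := star_mem hM hB hmax hζ (isGen_lext l) (fun w hw => lext_norm l hw)
    (lext_one l) hχ'
  have h2 := Characters.classInner_irr (⟨_, hirr⟩ : IrrCharacter G) χ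
  rw [if_neg] at h2
  · exact h2
  · intro he
    refine hne (MonoidHom.ext fun w => ?_)
    exact eq_one_of_central hM hB hmax hζ hχ' (congrArg Subtype.val he) w (hab w.2)

end CfsgLib.InertialQuotient
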