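import Cfsg.Agent.InertialQuotient.MasterSum
import Mathlib.GroupTheory.FiniteAbelian.Duality
import Mathlib.RingTheory.RootsOfUnity.AlgebraicallyClosed

/-!
# Watanabe's theorem

For a block with abelian defect group `P` and an element `u` of `P` fixed by the stabilizer of a
maximal pair, the block and the block of `C(u)` below have the same p-regular rank
(`blockRank_eq_rk`).
-/

set_option autoImplicit false
set_option linter.unusedSectionVars false
set_option linter.style.haveILetI false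
set_option maxHeartbeats 800000

namespace CfsgLib.InertialQuotient

open Cfsg CfsgLib.BlockPairs
open CfsgLib.Blocks (Res)
open CfsgLib.Star (below lext)

universe u

variable {G : Type u} [Group G] [Fintype G] {M : Ideal AlgInt} [M.IsPrime] {p : ℕ}
  [hp : Fact p.Prime] [CharP (Res M) p] [IsAlgClosed (Res M)]
  {B : Set (IrrCharacter G)} {P : Subgroup G} {eP : GA (Res M) G}

/-- The inertial index is prime to p. -/
theorem not_dvd_inertial (hB : Cfsg.IsPBlock M B) (hmax : IsMaxPair p ⊤ (gblk M B) P eP)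
    (hab : P ≤ Subgroup.centralizer (P : Set G)) :
    ¬ p ∣ ((Subgroup.centralizer (P : Set G)).subgroupOf (stab ⊤ P eP)).index := by
  set T := stab ⊤ P eP
  set N := (Subgroup.centralizer (P : Set G)).subgroupOf T
  haveI : N.Normal := ⟨fun n hn g => by
    rw [Subgroup.mem_subgroupOf] at hn ⊢
    push_cast
    exact (Subgroup.mem_normalizer_iff.1
      (normalizer_le_normalizer_centralizer P (stab_le_normalizer g.2)) (n : G)).1 hn⟩
  intro hdvd
  rw [Subgroup.index_eq_card] at hdvd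
  obtain ⟨q, hq⟩ := exists_prime_orderOf_dvd_card' (G := T ⧸ N) p hdvd
  obtain ⟨m, hm, hpow⟩ := exists_coprime_pow (isBlock_gblk hB) hmax hab
  obtain ⟨g, rfl⟩ := QuotientGroup.mk_surjective q
  refine hm (hq ▸ orderOf_dvd_of_pow_eq_one ?_)
  rw [← QuotientGroup.mk_pow, QuotientGroup.eq_one_iff, Subgroup.mem_subgroupOf]
  push_cast
  exact hpow (g : G) g.2

/-- An element of `P` fixed by the stabilizer is separated from the centre of the group by an
invariant linear character. -/
theorem exists_invariant_lin (hB : Cfsg.IsPBlock M B) (hmax : IsMaxPair p ⊤ (gblk M B) P eP)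
    (hab : P ≤ Subgroup.centralizer (P : Set G)) {u : G} (hu : u ∈ P)
    (hfix : ∀ t ∈ stab ⊤ P eP, t * u * t⁻¹ = u) (hnc : u ∉ Subgroup.center G) :
    ∃ l : P →* ℂˣ, (∀ t ∈ stab ⊤ P eP, ∀ w ∈ P, lext l (t * w * t⁻¹) = lext l w) ∧
      (∀ w : P, (w : G) ∈ Subgroup.center G → l w = 1) ∧ l ⟨u, hu⟩ ≠ 1 := by
  classical
  letI : CommGroup P := { (inferInstance : Group P) with
    mul_comm := fun a b => Subtype.ext (Subgroup.mem_centralizer_iff.1 (hab b.2) a a.2) }
  set Z := (Subgroup.center G).subgroupOf P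
  haveI : NeZero (Monoid.exponent (P ⧸ Z) : ℂ) :=
    ⟨Nat.cast_ne_zero.2 Monoid.exponent_ne_zero_of_finite⟩
  have hne : ((⟨u, hu⟩ : P) : P ⧸ Z) ≠ 1 := fun h =>
    hnc (Subgroup.mem_subgroupOf.1 ((QuotientGroup.eq_one_iff _).1 h) :)
  obtain ⟨φ, hφ⟩ := CommGroup.exists_apply_ne_one_of_hasEnoughRootsOfUnity (P ⧸ Z) ℂ hne
  let mu : P →* ℂˣ := φ.comp (QuotientGroup.mk' Z)
  have hmu : ∀ w : P, (w : G) ∈ Subgroup.center G → mu w = 1 := fun w hw => by
    show φ (w : P ⧸ Z) = 1
    rw [(QuotientGroup.eq_one_iff w).2 (Subgroup.mem_subgroupOf.2 hw), map_one]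
  have hmuu : mu ⟨u, hu⟩ ≠ 1 := hφ
  set T := stab ⊤ P eP with hT
  set N := (Subgroup.centralizer (P : Set G)).subgroupOf T with hN
  haveI := Fintype.ofFinite (T ⧸ N)
  have hmem : ∀ (t : T) (w : P), (t : G)⁻¹ * (w : G) * t ∈ P := fun t w => by
    have h := (Subgroup.mem_normalizer_iff.1 (inv_mem (stab_le_normalizer t.2)) (w : G)).1 w.2
    simpa using h
  let c : T → P → P := fun t w => ⟨(t : G)⁻¹ * (w : G) * t, hmem t w⟩
  have hcmul : ∀ t w w', c t (w * w') = c t w * c t w' := fun t w w' => Subtype.ext (by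
    show (t : G)⁻¹ * ((w : G) * w') * t = (t : G)⁻¹ * w * t * ((t : G)⁻¹ * w' * t)
    group)
  let F : P → T ⧸ N → ℂˣ := fun w q => mu (c q.out w)
  let l : P →* ℂˣ := MonoidHom.mk' (fun w => ∏ q, F w q) fun w w' => by
    rw [← Finset.prod_mul_distrib]
    exact Finset.prod_congr rfl fun q _ => by simp only [F, hcmul, map_mul]
  have hl : ∀ w, l w = ∏ q, F w q := fun w => rfl
  have hcinv : ∀ (a b : T), (QuotientGroup.mk a : T ⧸ N) = QuotientGroup.mk b →
      ∀ w, c a w = c b w := by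
    intro a b hab' w
    have h : ((a⁻¹ * b : T) : G) ∈ Subgroup.centralizer (P : Set G) :=
      Subgroup.mem_subgroupOf.1 (QuotientGroup.eq.1 hab')
    have hcw := Subgroup.mem_centralizer_iff.1 h _ (hmem a w)
    push_cast at hcw
    refine Subtype.ext ?_
    show (a : G)⁻¹ * (w : G) * a = (b : G)⁻¹ * (w : G) * b
    calc (a : G)⁻¹ * (w : G) * a
        = ((a : G)⁻¹ * b)⁻¹ * ((a : G)⁻¹ * b * ((a : G)⁻¹ * (w : G) * a)) := by group
      _ = ((a : G)⁻¹ * b)⁻¹ * ((a : G)⁻¹ * (w : G) * a * ((a : G)⁻¹ * b)) := by rw [hcw]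
      _ = (b : G)⁻¹ * (w : G) * b := by group
  refine ⟨l, ?_, ?_, ?_⟩
  · intro t ht w hw
    have htw : t * w * t⁻¹ ∈ P :=
      (Subgroup.mem_normalizer_iff.1 (stab_le_normalizer ht) w).1 hw
    rw [show lext l (t * w * t⁻¹) = (l ⟨_, htw⟩ : ℂ) from dif_pos htw,
      show lext l w = (l ⟨w, hw⟩ : ℂ) from dif_pos hw, hl, hl]
    refine congrArg Units.val (Fintype.prod_equiv
      (MulAction.toPerm (⟨t, ht⟩ : T)⁻¹) _ _ fun q => ?_)
    simp only [F, MulAction.toPerm_apply]
    refine congrArg mu ?_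
    have e1 : c q.out ⟨t * w * t⁻¹, htw⟩ = c ((⟨t, ht⟩ : T)⁻¹ * q.out) ⟨w, hw⟩ := by
      refine Subtype.ext ?_
      simp only [c]
      push_cast
      group
    rw [e1]
    refine hcinv _ _ ?_ _
    conv_rhs => rw [QuotientGroup.out_eq', ← QuotientGroup.out_eq' q]
    exact (MulAction.Quotient.smul_mk (H := N) (⟨t, ht⟩ : T)⁻¹ q.out).symm
  · intro w hw
    rw [hl]
    refine Finset.prod_eq_one fun q _ => ?_
    refine hmu _ ?_
    show ((q.out : T) : G)⁻¹ * (w : G) * (q.out : T) ∈ Subgroup.center G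
    rw [mul_assoc, ← (Subgroup.mem_center_iff.1 hw ((q.out : T) : G)), inv_mul_cancel_left]
    exact hw
  · have hlu : l ⟨u, hu⟩ = mu ⟨u, hu⟩ ^ N.index := by
      rw [hl, Subgroup.index_eq_card, Nat.card_eq_fintype_card, ← Finset.card_univ,
        ← Finset.prod_const]
      refine Finset.prod_congr rfl fun q _ => congrArg mu (Subtype.ext ?_)
      have h := hfix _ (inv_mem (q.out : T).2)
      rw [inv_inv] at h
      exact h
    rw [hlu]
    intro h1
    refine hmuu (orderOf_eq_one_iff.1 ?_)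
    obtain ⟨k, hk⟩ := hmax.1.1.2.1 ⟨u, hu⟩
    have h2 : orderOf (mu ⟨u, hu⟩) ∣ p ^ k :=
      orderOf_dvd_of_pow_eq_one (by rw [← map_pow, hk, map_one])
    obtain ⟨i, -, hi⟩ := (Nat.dvd_prime_pow hp.out).1 h2
    rcases i with _ | i
    · rwa [pow_zero] at hi
    · exact absurd ((dvd_pow_self p i.succ_ne_zero).trans
        (hi ▸ orderOf_dvd_of_pow_eq_one h1)) (not_dvd_inertial hB hmax hab)

theorem blockRank_eq_rk_aux (hM : Cfsg.IsPModular p M) (n : ℕ) :
    ∀ (G : Type u) [Group G] [Fintype G] (B : Set (IrrCharacter G)) (P : Subgroup G)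
      (eP : GA (Res M) G), Cfsg.IsPBlock M B → IsMaxPair p ⊤ (gblk M B) P eP →
      P ≤ Subgroup.centralizer (P : Set G) → ∀ u ∈ P, (∀ t ∈ stab ⊤ P eP, t * u * t⁻¹ = u) →
      Nat.card G = n → Cfsg.blockRank p B = rk p P eP (Subgroup.zpowers u) := by
  classical
  induction n using Nat.strong_induction_on with
  | _ n ih =>
  intro G _ _ B P eP hB hmax hab u hu hfix hn
  set T := stab ⊤ P eP with hT
  have hcen : ∀ w : G, Subgroup.centralizer ((Subgroup.zpowers w : Subgroup G) : Set G) = ⊤ ↔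
      w ∈ Subgroup.center G := fun w => by
    rw [Subgroup.centralizer_eq_top_iff_subset]
    exact ⟨fun h => h (Subgroup.mem_zpowers w), fun h => Subgroup.zpowers_le.2 h⟩
  by_cases hnc : u ∈ Subgroup.center G
  · exact (rk_of_centralizer_top hB hmax hab hM (Subgroup.zpowers_le.2 hu) ((hcen u).2 hnc)).symm
  set δ : ℂ := (rk p P eP (Subgroup.zpowers u) : ℂ) - (Cfsg.blockRank p B : ℂ) with hδ
  suffices h : δ = 0 by
    rw [hδ, sub_eq_zero, Nat.cast_inj] at h
    exact h.symm
  -- the smaller groups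
  have hstep : ∀ w ∈ P, w ∉ Subgroup.center G → rk p P eP (Subgroup.zpowers w) =
      rk p P eP (Subgroup.zpowers w ⊔ Subgroup.zpowers u) := by
    intro w hw hwc
    set K := Subgroup.centralizer ((Subgroup.zpowers w : Subgroup G) : Set G) with hK
    haveI := Fintype.ofFinite K
    obtain ⟨b, e, hb, -, hmax', hst, hrk⟩ :=
      exists_local hB hmax hab hM (Subgroup.zpowers_le.2 hw)
    have huK : u ∈ K := le_centralizer_of_le hab (Subgroup.zpowers_le.2 hw) hu
    have hab' : P.subgroupOf K ≤ Subgroup.centralizer ((P.subgroupOf K : Subgroup K) : Set K) :=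
      fun a ha => Subgroup.mem_centralizer_iff.2 fun c hc =>
        Subtype.ext (Subgroup.mem_centralizer_iff.1 (hab ha) c hc)
    have hlt : Nat.card K < n := by
      rw [← hn]
      refine lt_of_le_of_ne K.card_le_card_group fun h => hwc ((hcen w).1 ?_)
      exact K.eq_top_of_card_eq h
    have h1 := ih _ hlt K b (P.subgroupOf K) e hb hmax' hab' ⟨u, huK⟩
      (Subgroup.mem_subgroupOf.2 hu)
      (fun t ht => Subtype.ext (hfix (t : G) ((hst t).1 ht))) rfl
    have h0 : rk p (P.subgroupOf K) e ⊥ = Cfsg.blockRank p b :=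
      rk_of_centralizer_top hb hmax' hab' hM bot_le
        (Subgroup.centralizer_eq_top_iff_subset.2 fun x hx => by
          rw [SetLike.mem_coe, Subgroup.mem_bot] at hx; subst hx; exact one_mem _)
    rw [← h0, hrk ⊥ bot_le, Subgroup.map_bot, sup_bot_eq,
      hrk _ (Subgroup.zpowers_le.2 (Subgroup.mem_subgroupOf.2 hu)), MonoidHom.map_zpowers] at h1
    exact h1
  have hjoin : ∀ w : G, Subgroup.zpowers (u * w) ⊔ Subgroup.zpowers u =
      Subgroup.zpowers w ⊔ Subgroup.zpowers u := fun w => by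
    refine le_antisymm (sup_le (Subgroup.zpowers_le.2 ?_) le_sup_right)
      (sup_le (Subgroup.zpowers_le.2 ?_) le_sup_right)
    · exact mul_mem (Subgroup.mem_sup_right (Subgroup.mem_zpowers u))
        (Subgroup.mem_sup_left (Subgroup.mem_zpowers w))
    · have := mul_mem (Subgroup.mem_sup_right (S := Subgroup.zpowers (u * w))
        (inv_mem (Subgroup.mem_zpowers u))) (Subgroup.mem_sup_left (Subgroup.mem_zpowers (u * w)))
      rwa [inv_mul_cancel_left] at this
  have hjc : ∀ w ∈ P, w ∈ Subgroup.center G →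
      rk p P eP (Subgroup.zpowers w ⊔ Subgroup.zpowers u) = rk p P eP (Subgroup.zpowers u) :=
    fun w hw hwc => rk_congr hB hmax hab (Subgroup.zpowers_le.2 hu)
      (sup_le (Subgroup.zpowers_le.2 hw) (Subgroup.zpowers_le.2 hu))
      (by rw [centralizer_sup, (hcen w).2 hwc, top_inf_eq])
  let g : G → ℂ := fun w => (rk p P eP (Subgroup.zpowers w) : ℂ) / (ocard T w : ℂ)
  -- the difference
  have hh : ∀ w : P, g (u * w) - g w = (if (w : G) ∈ Subgroup.center G then δ else 0) -
      (if u * (w : G) ∈ Subgroup.center G then δ else 0) := by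
    intro w
    have huwP : u * (w : G) ∈ P := P.mul_mem hu w.2
    by_cases h1 : (w : G) ∈ Subgroup.center G
    · have h2 : u * (w : G) ∉ Subgroup.center G := fun h => hnc (by
        simpa using (Subgroup.center G).mul_mem h ((Subgroup.center G).inv_mem h1))
      have ho : ocard T (w : G) = 1 := ocard_of_fixed fun t _ => by
        rw [(Subgroup.mem_center_iff.1 h1 t), mul_inv_cancel_right]
      rw [if_pos h1, if_neg h2, sub_zero]
      simp only [g]
      rw [ocard_fixed_mul hfix, ho, hstep _ huwP h2, hjoin, hjc _ w.2 h1,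
        rk_of_centralizer_top hB hmax hab hM (Subgroup.zpowers_le.2 w.2) ((hcen _).2 h1), hδ]
      simp
    by_cases h2 : u * (w : G) ∈ Subgroup.center G
    · have ho : ocard T (u * (w : G)) = 1 := ocard_of_fixed fun t _ => by
        rw [(Subgroup.mem_center_iff.1 h2 t), mul_inv_cancel_right]
      rw [if_neg h1, if_pos h2, zero_sub]
      simp only [g]
      rw [hstep _ w.2 h1, ← hjoin, hjc _ huwP h2, ← ocard_fixed_mul hfix (w : G), ho,
        rk_of_centralizer_top hB hmax hab hM (Subgroup.zpowers_le.2 huwP) ((hcen _).2 h2), hδ]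
      simp
    · rw [if_neg h1, if_neg h2, sub_zero]
      simp only [g]
      rw [ocard_fixed_mul hfix, hstep _ huwP h2, hjoin, hstep _ w.2 h1, sub_self]
  obtain ⟨l, hlinv, hlcen, hlu⟩ := exists_invariant_lin hB hmax hab hu hfix hnc
  have hne : l ≠ 1 := fun h => hlu (by rw [h]; rfl)
  have hg : ∑ w : P, (l w : ℂ) * g w = 0 := by
    rw [← sum_lext_eq_zero hB hmax hab hM hlinv hne]
    exact Finset.sum_congr rfl fun w _ => (mul_div_assoc _ _ _).symm
  set u' : P := ⟨u, hu⟩
  have hgu : ∑ w : P, (l w : ℂ) * g (u * w) = 0 := by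
    have h : (l u' : ℂ) * ∑ w : P, (l w : ℂ) * g (u * w) = ∑ w : P, (l w : ℂ) * g w := by
      rw [Finset.mul_sum]
      refine Fintype.sum_equiv (Equiv.mulLeft u') _ _ fun w => ?_
      rw [Equiv.coe_mulLeft, map_mul, Units.val_mul, Subgroup.coe_mul, mul_assoc]
    rw [hg, mul_eq_zero] at h
    exact h.resolve_left (Units.ne_zero _)
  set m : ℕ := (Finset.univ.filter fun w : P => (w : G) ∈ Subgroup.center G).card
  have hz1 : ∑ w : P, (l w : ℂ) * (if (w : G) ∈ Subgroup.center G then δ else 0) = m * δ := by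
    simp only [mul_ite, mul_zero]
    rw [← Finset.sum_filter, Finset.sum_congr rfl (g := fun _ => δ) fun w hw => by
      rw [hlcen w (Finset.mem_filter.1 hw).2, Units.val_one, one_mul], Finset.sum_const,
      nsmul_eq_mul]
  have hz2 : (l u' : ℂ) *
      ∑ w : P, (l w : ℂ) * (if u * (w : G) ∈ Subgroup.center G then δ else 0) = m * δ := by
    rw [← hz1, Finset.mul_sum]
    refine Fintype.sum_equiv (Equiv.mulLeft u') _ _ fun w => ?_
    rw [Equiv.coe_mulLeft, map_mul, Units.val_mul, Subgroup.coe_mul, mul_assoc]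
  have htot : ∑ w : P, (l w : ℂ) * (g (u * w) - g w) = 0 := by
    simp only [mul_sub, Finset.sum_sub_distrib, hg, hgu, sub_zero]
  simp only [hh, mul_sub, Finset.sum_sub_distrib, hz1, sub_eq_zero] at htot
  have h3 : ((l u' : ℂ) - 1) * ((m : ℂ) * δ) = 0 := by
    rw [sub_mul, one_mul, sub_eq_zero]
    conv_lhs => rw [htot]
    exact hz2
  have hm : (m : ℂ) ≠ 0 := by
    refine Nat.cast_ne_zero.2 (Finset.card_pos.2 ⟨1, ?_⟩).ne'
    exact Finset.mem_filter.2 ⟨Finset.mem_univ _, one_mem _⟩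
  have h4 := (mul_eq_zero.1 h3).resolve_left
    (sub_ne_zero.2 fun h => hlu (Units.ext (by simpa using h)))
  exact (mul_eq_zero.1 h4).resolve_left hm

/-- Watanabe's theorem on the ranks. -/
theorem blockRank_eq_rk (hM : Cfsg.IsPModular p M) (hB : Cfsg.IsPBlock M B)
    (hmax : IsMaxPair p ⊤ (gblk M B) P eP) (hab : P ≤ Subgroup.centralizer (P : Set G)) {u : G}
    (hu : u ∈ P) (hfix : ∀ t ∈ stab ⊤ P eP, t * u * t⁻¹ = u) :
    Cfsg.blockRank p B = rk p P eP (Subgroup.zpowers u) :=
  blockRank_eq_rk_aux hM _ G B P eP hB hmax hab u hu hfix rfl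

/-- A block and the block below it of the centralizer of a fixed element have equally many
characters. -/
theorem card_eq_card_below (hM : Cfsg.IsPModular p M) (hB : Cfsg.IsPBlock M B)
    (hmax : IsMaxPair p ⊤ (gblk M B) P eP) (hab : P ≤ Subgroup.centralizer (P : Set G)) {u : G}
    (hu : u ∈ P) (hfix : ∀ t ∈ stab ⊤ P eP, t * u * t⁻¹ = u)
    {f : Set (IrrCharacter ↥(Subgroup.centralizer ((Subgroup.zpowers u : Subgroup G) : Set G)))}
    (hf : Cfsg.IsPBlock M f)
    (hfb : sblk M (Subgroup.centralizer ((Subgroup.zpowers u : Subgroup G) : Set G)) f =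
      below p P eP (Subgroup.zpowers u)) :
    Nat.card B = Nat.card f := by
  classical
  set H := Subgroup.centralizer ((Subgroup.zpowers u : Subgroup G) : Set G) with hH
  have huP : Subgroup.zpowers u ≤ P := Subgroup.zpowers_le.2 hu
  obtain ⟨b, e, hb, hbe, hmax', hst, hrk⟩ := exists_local hB hmax hab hM huP
  rw [sblk_inj (K := H) hf hb (hfb.trans hbe.symm)]
  haveI := Fintype.ofFinite H
  have hPH : P ≤ H := le_centralizer_of_le hab huP
  have hab' : P.subgroupOf H ≤ Subgroup.centralizer ((P.subgroupOf H : Subgroup H) : Set H) :=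
    fun a ha => Subgroup.mem_centralizer_iff.2 fun c hc =>
      Subtype.ext (Subgroup.mem_centralizer_iff.1 (hab ha) c hc)
  have hTH : stab ⊤ P eP ≤ H := fun t ht => by
    rw [hH, centralizer_zpowers, Subgroup.mem_centralizer_singleton_iff]
    exact mul_inv_eq_iff_eq_mul.1 (hfix t ht)
  apply Nat.cast_injective (R := ℂ)
  rw [card_eq_sum hB hmax hab hM, card_eq_sum hb hmax' hab' hM]
  refine Fintype.sum_equiv (Subgroup.subgroupOfEquivOfLe hPH).symm.toEquiv _ _ fun w => ?_
  set w' : P.subgroupOf H := (Subgroup.subgroupOfEquivOfLe hPH).symm w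
  have hw' : ((w' : H) : G) = (w : G) := rfl
  show _ = (rk p (P.subgroupOf H) e (Subgroup.zpowers (w' : H)) : ℂ) /
    (ocard (stab ⊤ (P.subgroupOf H) e) (w' : H) : ℂ)
  have ho : ocard (stab ⊤ (P.subgroupOf H) e) (w' : H) = ocard (stab ⊤ P eP) (w : G) := by
    rw [ocard, ocard, ← Nat.card_image_of_injective H.subtype_injective]
    congr 1
    refine congrArg _ (Set.ext fun v => ?_)
    constructor
    · rintro ⟨x, ⟨t, ht, rfl⟩, rfl⟩
      exact ⟨(t : G), (hst t).1 ht, by simp [hw']⟩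
    · rintro ⟨t, ht, rfl⟩
      exact ⟨_, ⟨⟨t, hTH ht⟩, (hst _).2 ht, rfl⟩, by simp [hw']⟩
  rw [ho, hrk _ (Subgroup.zpowers_le.2 w'.2), MonoidHom.map_zpowers, Subgroup.coe_subtype, hw']
  congr 2
  -- Watanabe's theorem in the centralizer of `w`
  set K := Subgroup.centralizer ((Subgroup.zpowers (w : G) : Subgroup G) : Set G) with hK
  haveI := Fintype.ofFinite K
  have hwP : Subgroup.zpowers (w : G) ≤ P := Subgroup.zpowers_le.2 w.2
  obtain ⟨b₂, e₂, hb₂, -, hmax₂, hst₂, hrk₂⟩ := exists_local hB hmax hab hM hwP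
  have huK : u ∈ K := le_centralizer_of_le hab hwP hu
  have hab₂ : P.subgroupOf K ≤ Subgroup.centralizer ((P.subgroupOf K : Subgroup K) : Set K) :=
    fun a ha => Subgroup.mem_centralizer_iff.2 fun c hc =>
      Subtype.ext (Subgroup.mem_centralizer_iff.1 (hab ha) c hc)
  have h1 := blockRank_eq_rk hM hb₂ hmax₂ hab₂ (u := ⟨u, huK⟩) (Subgroup.mem_subgroupOf.2 hu)
    (fun t ht => Subtype.ext (hfix (t : G) ((hst₂ t).1 ht)))
  rw [← rk_of_centralizer_top hb₂ hmax₂ hab₂ hM bot_le
      (Subgroup.centralizer_eq_top_iff_subset.2 fun x hx => by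
        rw [SetLike.mem_coe, Subgroup.mem_bot] at hx; subst hx; exact one_mem _),
    hrk₂ ⊥ bot_le, Subgroup.map_bot, sup_bot_eq,
    hrk₂ _ (Subgroup.zpowers_le.2 (Subgroup.mem_subgroupOf.2 hu)), MonoidHom.map_zpowers] at h1
  rw [h1, sup_comm]
  rfl

end CfsgLib.InertialQuotient
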